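import Cfsg.Prelude.Def_Balance
import Cfsg.Prelude.Def_Transfer
import Cfsg.Prelude.Def_PLocal
import Cfsg.Agent.Lib.Fusion.SolvableBalance
import Cfsg.Agent.Lib.Lead.PGV.TwoConf
import Cfsg.Agent.Lib.Local.ElemAb
import Cfsg.Agent.Lib.Fusion.Basic

/-!
# Involution cores, four groups and Sylow 2-subgroups
-/

set_option autoImplicit false
set_option linter.unusedSectionVars false
set_option linter.style.haveILetI false
open Cfsg.Agent.Fusion

namespace Cfsg.Agent.ZnGroup

universe u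

variable {G : Type u} [Group G] [Finite G]

/-- `O(C(x))`. -/
abbrev th (x : G) : Subgroup G := Cfsg.centralizerPPrimeCore 2 x

/-- The involution centralisers are solvable and `C(Ω₁(Z(P)))` normalises `P`. -/
structure Hyp (G : Type u) [Group G] [Finite G] : Prop where
  solv : ∀ t : G, orderOf t = 2 → Group.IsSolvable ↥(Subgroup.centralizer ({t} : Set G))
  zc : ∀ P : Subgroup G, SylIn 2 P ⊤ → ∀ x : G,
    (∀ w ∈ P, (∀ s ∈ P, s * w = w * s) → orderOf w = 2 → x * w = w * x) →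
      x ∈ Subgroup.normalizer (P : Set G)

omit [Finite G] in
theorem orderOf_conj (g x : G) : orderOf (g * x * g⁻¹) = orderOf x :=
  orderOf_injective (MulAut.conj g).toMonoidHom (MulAut.conj g).injective x

theorem sylIn_cj {P : Subgroup G} (hP : SylIn 2 P ⊤) (g : G) : SylIn 2 (cj P g) ⊤ :=
  hP.cj' (by rw [Subgroup.normalizer_eq_top]; exact Subgroup.mem_top g)

theorem th_le (x : G) : th x ≤ Subgroup.centralizer {x} := Subgroup.map_subtype_le _

theorem th_comm {x y : G} (hy : y ∈ th x) : y * x = x * y :=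
  Subgroup.mem_centralizer_singleton_iff.1 (th_le x hy)

theorem th_odd (x : G) : Odd (Nat.card ↥(th x)) := by
  haveI : Fact (Nat.Prime 2) := ⟨Nat.prime_two⟩
  rw [th, Cfsg.centralizerPPrimeCore, Subgroup.card_map_of_injective (Subgroup.subtype_injective _)]
  exact Nat.coprime_two_right.1 (card_pPrimeCore_coprime 2 _)

theorem th_norm {x g : G} (hg : g * x = x * g) : g ∈ Subgroup.normalizer (th x : Set G) := by
  refine mem_normalizer_of_cj_le ?_
  have hgC : g ∈ Subgroup.centralizer ({x} : Set G) := Subgroup.mem_centralizer_singleton_iff.2 hg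
  rintro _ ⟨_, ⟨o, ho, rfl⟩, rfl⟩
  exact ⟨⟨g, hgC⟩ * o * ⟨g, hgC⟩⁻¹,
    (inferInstance : (Cfsg.pPrimeCore 2 _).Normal).conj_mem o ho _, rfl⟩

/-- Balance. -/
theorem th_balance (h : Hyp G) {a b : G} (ha : orderOf a = 2) (hb : orderOf b = 2) (hab : a * b = b * a)
    {y : G} (hy : y ∈ th a) (hyb : y * b = b * y) : y ∈ th b := by
  haveI : Fact (Nat.Prime 2) := ⟨Nat.prime_two⟩
  refine centralizerPPrimeCore_inf_le ?_ hab (h.solv b hb)
    (Subgroup.mem_inf.2 ⟨hy, Subgroup.mem_centralizer_singleton_iff.2 hyb⟩)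
  exact IsPGroup.of_card (n := 1) (by rw [Nat.card_zpowers, ha, pow_one])

theorem mem_th_cj {g x y : G} (hy : y ∈ th x) : g * y * g⁻¹ ∈ th (g * x * g⁻¹) := by
  obtain ⟨C, hC⟩ : ∃ C, C = Subgroup.centralizer ({x} : Set G) := ⟨_, rfl⟩
  have hcl : cj (th x) g ≤ th (g * x * g⁻¹) := by
    haveI : Fact (Nat.Prime 2) := ⟨Nat.prime_two⟩
    have hmap : cj (th x) g ≤ Subgroup.centralizer ({g * x * g⁻¹} : Set G) := by
      rintro _ ⟨w, hw, rfl⟩
      have := th_comm hw
      exact Subgroup.mem_centralizer_singleton_iff.2 (by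
        show g * w * g⁻¹ * (g * x * g⁻¹) = g * x * g⁻¹ * (g * w * g⁻¹)
        simp only [mul_assoc, inv_mul_cancel_left]
        rw [← mul_assoc w, this, mul_assoc])
    have hn : Subgroup.centralizer ({g * x * g⁻¹} : Set G) ≤ Subgroup.normalizer (cj (th x) g : Set G) := by
      intro c hc
      have h1 : (g⁻¹ * c * g) * x = x * (g⁻¹ * c * g) := by
        have h2 := Subgroup.mem_centralizer_singleton_iff.1 hc
        calc (g⁻¹ * c * g) * x = g⁻¹ * (c * (g * x * g⁻¹)) * g := by group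
          _ = g⁻¹ * ((g * x * g⁻¹) * c) * g := by rw [h2]
          _ = _ := by group
      rw [mem_normalizer_iff_cj, cj_cj, show c * g = g * (g⁻¹ * c * g) by group, ← cj_cj,
        cj_eq_self (th_norm h1)]
    have hnorm := Subgroup.normal_subgroupOf_iff_le_normalizer hmap |>.2 hn
    intro w hw
    refine ⟨⟨w, hmap hw⟩, le_pPrimeCore (N := (cj (th x) g).subgroupOf _) ?_ hw, rfl⟩
    rw [Nat.card_congr (Subgroup.subgroupOfEquivOfLe hmap).toEquiv, card_cj]
    exact Nat.coprime_two_right.2 (th_odd x)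
  exact hcl (conj_mem_cj hy)

omit [Finite G] in
theorem sq_one {a : G} (ha : orderOf a = 2) : a * a = 1 := by
  rw [← pow_two, ← ha, pow_orderOf_eq_one]

omit [Finite G] in
theorem ne_one {a : G} (ha : orderOf a = 2) : a ≠ 1 := by
  rintro rfl
  simp at ha

omit [Finite G] in
theorem inv_eq {a : G} (ha : orderOf a = 2) : a⁻¹ = a := inv_eq_of_mul_eq_one_right (sq_one ha)

omit [Finite G] in
theorem order_two {a : G} (h : a * a = 1) (h1 : a ≠ 1) : orderOf a = 2 :=
  orderOf_eq_prime (by rw [pow_two]; exact h) h1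

/-- Two commuting involutions. -/
structure Four (a b : G) : Prop where
  ha : orderOf a = 2
  hb : orderOf b = 2
  comm : a * b = b * a
  ne : a ≠ b

namespace Four

variable {a b : G} (f : Four a b)
include f

omit [Finite G] in
theorem hab : orderOf (a * b) = 2 := by
  refine order_two ?_ fun h => f.ne ?_
  · calc a * b * (a * b) = a * (b * a) * b := by group
      _ = (a * a) * (b * b) := by rw [← f.comm]; group
      _ = 1 := by rw [sq_one f.ha, sq_one f.hb, mul_one]
  · rw [eq_inv_of_mul_eq_one_left h, inv_eq f.hb]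

omit [Finite G] in
theorem symm : Four b a := ⟨f.hb, f.ha, f.comm.symm, fun h => f.ne h.symm⟩

end Four

/-- The join of the three cores of a four group. -/
def sig3 (a b : G) : Subgroup G := th a ⊔ th b ⊔ th (a * b)

/-- A subgroup of odd order normalised by a four group is generated by its three centralisers. -/
theorem le_sig {a b : G} (f : Four a b) {Y Z : Subgroup G} (hY : Odd (Nat.card Y))
    (ha : a ∈ Subgroup.normalizer (Y : Set G)) (hb : b ∈ Subgroup.normalizer (Y : Set G))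
    (h1 : ∀ y ∈ Y, y * a = a * y → y ∈ Z) (h2 : ∀ y ∈ Y, y * b = b * y → y ∈ Z)
    (h3 : ∀ y ∈ Y, y * (a * b) = a * b * y → y ∈ Z) : Y ≤ Z := by
  intro y hy
  let φ : ↥(Subgroup.normalizer (Y : Set G)) →* MulAut ↥Y := Y.normalizerMonoidHom
  have hv : ∀ (g : ↥(Subgroup.normalizer (Y : Set G))) (w : ↥Y), ((φ g w : ↥Y) : G) = g * w * (g : G)⁻¹ :=
    fun g w => rfl
  have hfix : ∀ (g : ↥(Subgroup.normalizer (Y : Set G))) (w : ↥Y), φ g w = w → (w : G) * g = g * w := by
    intro g w hw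
    have := congrArg Subtype.val hw
    rw [hv, mul_inv_eq_iff_eq_mul] at this
    exact this.symm
  have key := PGV.four_generation (Q := ↥Y) hY (φ ⟨a, ha⟩) (φ ⟨b, hb⟩)
    (by rw [← map_mul, show (⟨a, ha⟩ * ⟨a, ha⟩ : ↥(Subgroup.normalizer (Y : Set G))) = 1 from
      Subtype.ext (sq_one f.ha), map_one])
    (by rw [← map_mul, show (⟨b, hb⟩ * ⟨b, hb⟩ : ↥(Subgroup.normalizer (Y : Set G))) = 1 from
      Subtype.ext (sq_one f.hb), map_one])
    (by
      show _ = _
      rw [← map_mul, ← map_mul]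
      exact congrArg φ (Subtype.ext f.comm))
    (Z.subgroupOf Y) (fun w hw => h1 w w.2 (hfix _ w hw)) (fun w hw => h2 w w.2 (hfix _ w hw))
    (fun w hw => h3 w w.2 (hfix (⟨a, ha⟩ * ⟨b, hb⟩) w (by rw [map_mul, MulAut.mul_apply]; exact hw)))
    ⟨y, hy⟩
  exact key

omit [Finite G] in
theorem Four.sig3_le {a b : G} {W : Subgroup G} (ha : th a ≤ W) (hb : th b ≤ W) (hab : th (a * b) ≤ W) :
    sig3 a b ≤ W := sup_le (sup_le ha hb) hab

/-- An involution of the centre of `P`. -/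
structure Zi (P : Subgroup G) (z : G) : Prop where
  ord : orderOf z = 2
  mem : z ∈ P
  comm : ∀ s ∈ P, s * z = z * s

theorem Zi.cj {P : Subgroup G} {z : G} (h : Zi P z) (g : G) : Zi (Fusion.cj P g) (g * z * g⁻¹) := by
  refine ⟨(orderOf_conj g z).trans h.ord, conj_mem_cj h.mem, ?_⟩
  rintro _ ⟨s, hs, rfl⟩
  show g * s * g⁻¹ * (g * z * g⁻¹) = g * z * g⁻¹ * (g * s * g⁻¹)
  simp only [mul_assoc, inv_mul_cancel_left]
  rw [← mul_assoc s, h.comm s hs, mul_assoc]

theorem exists_zi {P : Subgroup G} (hP : IsPGroup 2 P) (hne : P ≠ ⊥) : ∃ z, Zi P z := by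
  haveI : Fact (Nat.Prime 2) := ⟨Nat.prime_two⟩
  haveI : Nontrivial P := (Subgroup.nontrivial_iff_ne_bot P).2 hne
  haveI := hP.center_nontrivial
  obtain ⟨c, hc⟩ := exists_ne (1 : Subgroup.center P)
  have hcp : IsPGroup 2 (Subgroup.center P) := hP.to_subgroup _
  obtain ⟨k, hk⟩ := IsPGroup.iff_card.1 hcp
  have hk0 : 2 ∣ Nat.card (Subgroup.center P) := by
    rw [hk]
    refine dvd_pow_self 2 fun h0 => ?_
    rw [h0, pow_zero] at hk
    exact hc ((Nat.card_eq_one_iff_unique.1 hk).1.elim _ _)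
  obtain ⟨w, hw⟩ := exists_prime_orderOf_dvd_card' 2 hk0
  refine ⟨((w : P) : G), ?_, (w : P).2, fun s hs => ?_⟩
  · rw [Subgroup.orderOf_coe, Subgroup.orderOf_coe, hw]
  · exact congrArg Subtype.val (Subgroup.mem_center_iff.1 w.2 ⟨s, hs⟩)

/-- `P` has only one central involution. -/
def Single (P : Subgroup G) (z : G) : Prop := Zi P z ∧ ∀ w, Zi P w → w = z

theorem Single.cj {P : Subgroup G} {z : G} (h : Single P z) (g : G) :
    Single (Fusion.cj P g) (g * z * g⁻¹) := by
  refine ⟨h.1.cj g, fun w hw => ?_⟩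
  have h1 := hw.cj g⁻¹
  rw [cj_cj_inv] at h1
  rw [← h.2 _ h1]
  group

theorem mem_of_two {P : Subgroup G} (hP : SylIn 2 P ⊤) {Q : Subgroup G} (hQ : IsPGroup 2 Q)
    (h : Q ≤ Subgroup.normalizer (P : Set G)) : Q ≤ P := by
  haveI : Fact (Nat.Prime 2) := ⟨Nat.prime_two⟩
  obtain ⟨S, rfl⟩ := hP.exists_sylow
  have := IsPGroup.inf_normalizer_sylow hQ S
  rw [inf_of_le_left (show Q ≤ Subgroup.normalizer (S : Set G) from h)] at this
  exact inf_eq_left.1 this.symm

theorem isPGroup_zpowers {a : G} (ha : orderOf a = 2) : IsPGroup 2 ↥(Subgroup.zpowers a) :=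
  IsPGroup.of_card (n := 1) (by rw [Nat.card_zpowers, ha, pow_one])

theorem inv_mem_of {P : Subgroup G} (hP : SylIn 2 P ⊤) {a : G} (ha : orderOf a = 2)
    (h : a ∈ Subgroup.normalizer (P : Set G)) : a ∈ P :=
  mem_of_two hP (isPGroup_zpowers ha) (Subgroup.zpowers_le.2 h) (Subgroup.mem_zpowers a)

theorem Single.norm (h : Hyp G) {P : Subgroup G} {z : G} (hz : Single P z) (hP : SylIn 2 P ⊤) {x : G}
    (hx : x * z = z * x) : x ∈ Subgroup.normalizer (P : Set G) :=
  h.zc P hP x fun w hw hc ho => by rw [hz.2 w ⟨ho, hw, hc⟩]; exact hx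

theorem Single.inv_mem' (h : Hyp G) {P : Subgroup G} {z : G} (hz : Single P z) (hP : SylIn 2 P ⊤) {a : G}
    (ha : orderOf a = 2) (hx : a * z = z * a) : a ∈ P := inv_mem_of hP ha (hz.norm h hP hx)

theorem Single.le_of_two (h : Hyp G) {P : Subgroup G} {z : G} (hz : Single P z) (hP : SylIn 2 P ⊤)
    {Q : Subgroup G} (hQ : IsPGroup 2 Q) (hx : ∀ x ∈ Q, x * z = z * x) : Q ≤ P :=
  mem_of_two hP hQ fun x hx' => hz.norm h hP (hx x hx')

/-- An element of a `2`-group and an odd subgroup normalising each other commute. -/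
theorem comm_of_norm {D P : Subgroup G} (hD : Odd (Nat.card D)) (hP : IsPGroup 2 P) {d s : G}
    (hd : d ∈ D) (hs : s ∈ P) (hsD : s ∈ Subgroup.normalizer (D : Set G))
    (hdP : d ∈ Subgroup.normalizer (P : Set G)) : d * s = s * d := by
  haveI : Fact (Nat.Prime 2) := ⟨Nat.prime_two⟩
  have h1 : d * s * d⁻¹ * s⁻¹ ∈ D := by
    rw [mul_assoc d, mul_assoc d]
    exact mul_mem hd ((Subgroup.mem_normalizer_iff.1 hsD _).1 (inv_mem hd))
  have h2 : d * s * d⁻¹ * s⁻¹ ∈ P := mul_mem ((Subgroup.mem_normalizer_iff.1 hdP s).1 hs) (inv_mem hs)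
  have h3 := coprime_inf_pGroup (Nat.coprime_two_right.2 hD) hP
  have h4 : d * s * d⁻¹ * s⁻¹ = 1 := by rw [← Subgroup.mem_bot, ← h3]; exact ⟨h1, h2⟩
  calc d * s = (d * s * d⁻¹ * s⁻¹) * (s * d) := by group
    _ = s * d := by rw [h4, one_mul]

/-- `O(C(z))` centralises `P` when `z` is the only central involution of `P`. -/
theorem Single.th_comm' (h : Hyp G) {P : Subgroup G} {z : G} (hz : Single P z) (hP : SylIn 2 P ⊤)
    {d s : G} (hd : d ∈ th z) (hs : s ∈ P) : d * s = s * d :=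
  comm_of_norm (th_odd z) hP.isPGroup hd hs (th_norm (hz.1.comm s hs)) (hz.norm h hP (th_comm hd))

end Cfsg.Agent.ZnGroup
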