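import Cfsg.Agent.Lib.Lead.ZnGroup.Rank

/-!
# The linked Sylow subgroups and the strongly embedded subgroup
-/

set_option autoImplicit false
set_option linter.unusedSectionVars false
set_option linter.style.haveILetI false
open Cfsg.Agent.Fusion

namespace Cfsg.Agent.ZnGroup

universe u

variable {G : Type u} [Group G] [Finite G]

/-- The situation after the trivial exits. -/
structure Ctx (L : Subgroup G) : Prop where
  hyp : Hyp G
  norm : L.Normal
  res : Cfsg.pResidual 2 G ≤ L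
  cut : ∀ P : Subgroup G, SylIn 2 P ⊤ → Cut L P
  zi : ∀ P : Subgroup G, SylIn 2 P ⊤ → ∀ z, Zi P z → z ∈ L

theorem kG_cj_le {L : Subgroup G} [hL : L.Normal] (S : Subgroup G) (g : G) :
    Fusion.cj (kG L S) g ≤ kG L (Fusion.cj S g) := by
  rw [kG, Fusion.cj, Subgroup.map_iSup]
  refine iSup_le fun u => ?_
  rintro _ ⟨y, hy, rfl⟩
  exact th_le_kG (conj_mem_cj u.2.1) (hL.conj_mem _ u.2.2.1 g) ((orderOf_conj g u.1).trans u.2.2.2)
    (mem_th_cj hy)

theorem kG_cj {L : Subgroup G} [L.Normal] (S : Subgroup G) (g : G) :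
    Fusion.cj (kG L S) g = kG L (Fusion.cj S g) := by
  refine le_antisymm (kG_cj_le S g) ?_
  have h1 := kG_cj_le (L := L) (Fusion.cj S g) g⁻¹
  rw [cj_cj_inv] at h1
  have h2 := cj_mono h1 g
  rwa [cj_inv_cj] at h2

theorem kG_norm {L : Subgroup G} [L.Normal] {S : Subgroup G} {g : G}
    (hg : g ∈ Subgroup.normalizer (S : Set G)) : g ∈ Subgroup.normalizer (kG L S : Set G) :=
  mem_normalizer_of_cj_le (by rw [kG_cj, cj_eq_self hg])

theorem Cut.cj {L S : Subgroup G} [hL : L.Normal] (hc : Cut L S) (g : G) : Cut L (Fusion.cj S g) := by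
  refine Cut.of (Fusion.cj (kG L S) g) (by rw [card_cj]; exact hc.odd) fun u hu hLu h2 => ⟨?_, fun w hw e => ?_⟩
  · rw [kG_cj]; exact th_le_kG hu hLu h2
  · obtain ⟨u0, hu0, rfl⟩ := hu
    obtain ⟨w0, hw0, rfl⟩ := hw
    refine mem_th_cj (hc.cut u0 hu0 ?_ ((orderOf_conj g u0).symm.trans h2) w0 hw0 ?_)
    · have := hL.conj_mem _ hLu g⁻¹
      simpa [mul_assoc] using this
    · refine (MulAut.conj g).injective ?_
      rw [map_mul, map_mul]
      exact e

namespace Ctx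

variable {L : Subgroup G} (c : Ctx L)
include c

theorem share_le {S S' : Subgroup G} (hS : SylIn 2 S ⊤) {a b : G} (f : Four a b) (ha : a ∈ S) (hb : b ∈ S)
    (ha' : a ∈ S') (hb' : b ∈ S') (haL : a ∈ L) (hbL : b ∈ L) : kG L S ≤ kG L S' := by
  haveI := c.norm
  have k := c.cut S hS
  refine le_sig f k.odd (kG_norm (Subgroup.le_normalizer ha)) (kG_norm (Subgroup.le_normalizer hb))
    (fun y hy e => th_le_kG ha' haL f.ha (k.cut a ha haL f.ha y hy e))
    (fun y hy e => th_le_kG hb' hbL f.hb (k.cut b hb hbL f.hb y hy e))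
    (fun y hy e => th_le_kG (mul_mem ha' hb') (mul_mem haL hbL) f.hab
      (k.cut _ (mul_mem ha hb) (mul_mem haL hbL) f.hab y hy e))

theorem share {S S' : Subgroup G} (hS : SylIn 2 S ⊤) (hS' : SylIn 2 S' ⊤) {a b : G} (f : Four a b)
    (ha : a ∈ S) (hb : b ∈ S) (ha' : a ∈ S') (hb' : b ∈ S') (haL : a ∈ L) (hbL : b ∈ L) :
    kG L S = kG L S' :=
  le_antisymm (c.share_le hS f ha hb ha' hb' haL hbL) (c.share_le hS' f ha' hb' ha hb haL hbL)

/-- All Sylow subgroups through an involution of `O²(G)` give the same group. -/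
theorem same {S P : Subgroup G} (hS : SylIn 2 S ⊤) (hP : SylIn 2 P ⊤) {u : G} (huS : u ∈ S) (huP : u ∈ P)
    (huH : u ∈ Cfsg.pResidual 2 G) (h2 : orderOf u = 2) : kG L P = kG L S := by
  haveI : Fact (Nat.Prime 2) := ⟨Nat.prime_two⟩
  haveI := c.norm
  have huL : u ∈ L := c.res huH
  set C := Subgroup.centralizer ({u} : Set G) with hC
  have hmem : ∀ x, x ∈ C ↔ x * u = u * x := fun x => Subgroup.mem_centralizer_singleton_iff
  obtain ⟨PS, hPS, hQ⟩ := exists_sylIn_ge (hS.isPGroup.to_inf_left (K := C)) inf_le_right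
  obtain ⟨S', hS', hPS'⟩ := exists_sylIn_ge hPS.isPGroup (le_top : PS ≤ ⊤)
  have huS' : u ∈ S' := hPS' (hQ ⟨huS, (hmem u).2 rfl⟩)
  -- `K(S') = K(S)`
  have h1 : kG L S' = kG L S := by
    by_cases hex : ∃ z, Zi S z ∧ z ≠ u
    · obtain ⟨z, hz, hzu⟩ := hex
      have hzS' : z ∈ S' := hPS' (hQ ⟨hz.mem, (hmem z).2 (hz.comm u huS).symm⟩)
      exact c.share hS' hS ⟨hz.ord, h2, (hz.comm u huS).symm, hzu⟩ hzS' huS' hz.mem huS (c.zi S hS z hz) huL
    · push Not at hex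
      obtain ⟨z, hz⟩ := exists_zi hS.isPGroup fun e => ne_one h2 (Subgroup.mem_bot.1 (e ▸ huS))
      obtain rfl := hex z hz
      rw [hS.eq_of_le hS'.isPGroup (fun x hx => hPS' (hQ ⟨hx, (hmem x).2 (hz.comm x hx)⟩)) le_top]
  -- `C(u)` normalises `K(S')`
  have hPSC : S' ⊓ C = PS :=
    hPS.eq_of_le hS'.isPGroup.to_inf_left (le_inf hPS' hPS.le) inf_le_right
  have h2' : C ≤ Subgroup.normalizer (kG L S' : Set G) := by
    by_cases hex : ∃ z, Zi S' z ∧ z ≠ u
    · obtain ⟨z, hz, hzu⟩ := hex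
      obtain ⟨P0, hP0⟩ := hPS.exists_sylow_subgroupOf
      obtain ⟨T, hT, hTc, hTd⟩ := core_frattini (c.hyp.solv u h2) P0
      have hzP : z ∈ PS := hPSC.le ⟨hz.mem, (hmem z).2 (hz.comm u huS').symm⟩
      have huP' : u ∈ PS := hQ ⟨huS, (hmem u).2 rfl⟩
      have hTS : ∀ t ∈ T, (t : G) ∈ S' := fun t ht => hPS' (by
        have := hT ht; rw [hP0] at this; exact this)
      have hzT : (⟨z, hPS.le hzP⟩ : ↥C) ∈ T := hTc _ (by rw [hP0]; exact hzP) fun t ht =>
        Subtype.ext (hz.comm t (hTS t ht)).symm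
      intro x hx
      obtain ⟨o, ho, m, hm, e⟩ := hTd ⟨x, hx⟩
      have e' : x = (o : G) * (m : G) := congrArg Subtype.val e
      rw [e']
      refine mul_mem (Subgroup.le_normalizer (th_le_kG huS' huL h2 ⟨o, ho, rfl⟩)) ?_
      have hzm : (m : G) * z * (m : G)⁻¹ ∈ S' :=
        hTS _ ((Subgroup.mem_normalizer_iff.1 hm _).1 hzT)
      have hum : (m : G) * u * (m : G)⁻¹ = u := by rw [(hmem _).1 m.2, mul_inv_cancel_right]
      refine mem_normalizer_of_cj_le (le_of_eq ?_)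
      rw [kG_cj]
      have humS : u ∈ Fusion.cj S' (m : G) := by
        have := conj_mem_cj (g := (m : G)) huS'
        rwa [hum] at this
      refine c.share (sylIn_cj hS' _) hS' (a := (m : G) * z * (m : G)⁻¹) (b := u)
        ⟨(orderOf_conj _ z).trans hz.ord, h2, ?_, fun e2 => hzu ?_⟩ (conj_mem_cj hz.mem)
        humS hzm huS' (c.norm.conj_mem z (c.zi S' hS' z hz) _) huL
      · have hmu : Commute (m : G) u := (hmem _).1 m.2
        have hzu2 : Commute z u := (hz.comm u huS').symm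
        exact ((hmu.mul_left hzu2).mul_left hmu.inv_left).eq
      · exact mul_left_cancel (mul_right_cancel (e2.trans hum.symm))
    · push Not at hex
      obtain ⟨z, hz⟩ := exists_zi hS'.isPGroup fun e => ne_one h2 (Subgroup.mem_bot.1 (e ▸ huS'))
      obtain rfl := hex z hz
      intro x hx
      exact kG_norm (Single.norm c.hyp ⟨hz, fun w hw => hex w hw⟩ hS' ((hmem x).1 hx))
  -- `K(P) = K(S')`
  rw [← h1]
  by_cases hex : ∃ z, Zi P z ∧ z ≠ u
  · obtain ⟨z, hz, hzu⟩ := hex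
    have hzu' : z * u = u * z := (hz.comm u huP).symm
    obtain ⟨g, hg, hgle⟩ := hPS.conj_le (hP.isPGroup.to_inf_left (K := C)) inf_le_right
    have hin : ∀ x ∈ P, x * u = u * x → x ∈ Fusion.cj S' g⁻¹ := fun x hx e =>
      (cj_le_iff.1 (hgle.trans hPS')) ⟨hx, (hmem x).2 e⟩
    rw [c.share hP (sylIn_cj hS' g⁻¹) ⟨hz.ord, h2, hzu', hzu⟩ hz.mem huP (hin z hz.mem hzu') (hin u huP rfl)
      (c.zi P hP z hz) huL, ← kG_cj, cj_eq_self (h2' (inv_mem hg))]
  · push Not at hex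
    obtain ⟨z, hz⟩ := exists_zi hP.isPGroup fun e => ne_one h2 (Subgroup.mem_bot.1 (e ▸ huP))
    obtain rfl := hex z hz
    have hsing : Single P z := ⟨hz, fun w hw => hex w hw⟩
    have hle : PS ≤ P := hsing.le_of_two c.hyp hP hPS.isPGroup fun x hx => (hmem x).1 (hPS.le hx)
    have hPP : P = PS := hPS.eq_of_le hP.isPGroup hle fun x hx => (hmem x).2 (hz.comm x hx)
    rw [hP.eq_of_le hS'.isPGroup (hPP.le.trans hPS') le_top]

/-- Fusion of the involutions of `O²(G)` normalising `K(S)`. -/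
theorem fusion {S : Subgroup G} (hS : SylIn 2 S ⊤) {g t s : G} (h2 : orderOf t = 2)
    (ht : t ∈ Cfsg.pResidual 2 G) (htN : t ∈ Subgroup.normalizer (kG L S : Set G))
    (hs : s ∈ Cfsg.pResidual 2 G) (hsN : s ∈ Subgroup.normalizer (kG L S : Set G))
    (e : g * t * g⁻¹ = s) : g ∈ Subgroup.normalizer (kG L S : Set G) := by
  haveI : Fact (Nat.Prime 2) := ⟨Nat.prime_two⟩
  haveI := c.norm
  set H := Cfsg.pResidual 2 G
  set M := Subgroup.normalizer (kG L S : Set G) ⊓ H with hM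
  have hR : SylIn 2 (S ⊓ H) H := hS.inf_normal le_top (by rw [Subgroup.normalizer_eq_top])
  have hRM : SylIn 2 (S ⊓ H) M :=
    hR.mono (le_inf (inf_le_left.trans fun x hx => kG_norm (Subgroup.le_normalizer hx)) inf_le_right)
      inf_le_right
  have hinto : ∀ w, orderOf w = 2 → w ∈ M →
      ∃ x ∈ M, x * w * x⁻¹ ∈ S ∧ x * w * x⁻¹ ∈ H := fun w hw hwM => by
    obtain ⟨x, hx, hle⟩ := hRM.conj_le (isPGroup_zpowers hw) (Subgroup.zpowers_le.2 hwM)
    exact ⟨x, hx, hle (conj_mem_cj (Subgroup.mem_zpowers w))⟩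
  obtain ⟨x, hx, hxS, hxH⟩ := hinto t h2 ⟨htN, ht⟩
  obtain ⟨y, hy, hyS, hyH⟩ := hinto s (e ▸ (orderOf_conj g t).trans h2) ⟨hsN, hs⟩
  obtain ⟨k, hk⟩ : ∃ k, k = y * g * x⁻¹ := ⟨_, rfl⟩
  have hkv : k * (x * t * x⁻¹) * k⁻¹ = y * s * y⁻¹ := by rw [hk, ← e]; group
  have huP : x * t * x⁻¹ ∈ Fusion.cj S k⁻¹ :=
    mem_cj.2 (by rw [inv_inv, hkv]; exact hyS)
  have hkK := c.same hS (sylIn_cj hS k⁻¹) hxS huP hxH ((orderOf_conj x t).trans h2)
  rw [← kG_cj] at hkK
  have hkN : k⁻¹ ∈ Subgroup.normalizer (kG L S : Set G) := mem_normalizer_iff_cj.2 hkK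
  rw [show g = y⁻¹ * k * x by rw [hk]; group]
  exact mul_mem (mul_mem (inv_mem hy.1) (inv_inv k ▸ inv_mem hkN)) hx.1

end Ctx

end Cfsg.Agent.ZnGroup
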