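import Cfsg.Agent.Lib.Lead.ZnGroup.Embed
import Cfsg.Agent.S0505
import Cfsg.Agent.S0223

/-!
# The dichotomy: strongly embedded subgroup or characteristic two type
-/

set_option autoImplicit false
set_option linter.unusedSectionVars false
set_option linter.style.haveILetI false
open Cfsg.Agent.Fusion

namespace Cfsg.Agent.ZnGroup

universe u

variable {G : Type u} [Group G] [Finite G]

/-- `Ω₁(Z(S))`. -/
abbrev zOm (S : Subgroup G) : Subgroup G := Cfsg.omegaOne 2 (S ⊓ Subgroup.centralizer (S : Set G))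

theorem mem_zOm {S : Subgroup G} {x : G} :
    x ∈ zOm S ↔ x ∈ S ∧ (∀ s ∈ S, s * x = x * s) ∧ x * x = 1 := by
  refine ⟨fun hx => ?_, fun ⟨h1, h2, h3⟩ => Subgroup.subset_closure
    ⟨⟨h1, Subgroup.mem_centralizer_iff.2 h2⟩, by rw [pow_two]; exact h3⟩⟩
  induction hx using Subgroup.closure_induction with
  | mem a ha => exact ⟨ha.1.1, Subgroup.mem_centralizer_iff.1 ha.1.2, by rw [← pow_two]; exact ha.2⟩
  | one => exact ⟨one_mem _, fun s _ => by rw [mul_one, one_mul], one_mul 1⟩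
  | mul a b _ _ iha ihb =>
    refine ⟨mul_mem iha.1 ihb.1, fun s hs => ?_, ?_⟩
    · rw [← mul_assoc, iha.2.1 s hs, mul_assoc, ihb.2.1 s hs, mul_assoc]
    · rw [mul_assoc, ← mul_assoc b, ihb.2.1 a iha.1 |>.symm, mul_assoc a b, ihb.2.2, mul_one, iha.2.2]
  | inv a _ iha =>
    rw [inv_eq_of_mul_eq_one_right iha.2.2]
    exact iha

theorem Zi.mem_zOm' {S : Subgroup G} {z : G} (hz : Zi S z) : z ∈ zOm S :=
  mem_zOm.2 ⟨hz.mem, hz.comm, sq_one hz.ord⟩

theorem zi_of_mem {S : Subgroup G} {x : G} (hx : x ∈ zOm S) (h1 : x ≠ 1) : Zi S x :=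
  ⟨order_two (mem_zOm.1 hx).2.2 h1, (mem_zOm.1 hx).1, (mem_zOm.1 hx).2.1⟩

theorem hyp_of
    (hC : ∀ t : G, orderOf t = 2 → Group.IsSolvable ↥(Subgroup.centralizer ({t} : Set G)))
    (hZ : ∀ S : Sylow 2 G, Subgroup.centralizer (zOm (S : Subgroup G) : Set G) ≤
      Subgroup.normalizer ((S : Subgroup G) : Set G)) : Hyp G := by
  refine ⟨hC, fun P hP x hx => ?_⟩
  haveI : Fact (Nat.Prime 2) := ⟨Nat.prime_two⟩
  obtain ⟨S, rfl⟩ := hP.exists_sylow
  refine hZ S (Subgroup.mem_centralizer_iff.2 fun w hw => ?_)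
  by_cases h1 : w = 1
  · rw [h1, mul_one, one_mul]
  · have := zi_of_mem hw h1
    exact (hx w this.mem this.comm this.ord).symm

theorem pResidual_sup {S : Subgroup G} (hS : SylIn 2 S ⊤) : Cfsg.pResidual 2 G ⊔ S = ⊤ := by
  haveI : Fact (Nat.Prime 2) := ⟨Nat.prime_two⟩
  obtain ⟨P, rfl⟩ := hS.exists_sylow
  exact pResidual_sup_sylow P

/-- A central involution of `S` lies in `O²(G)`. -/
theorem exists_zi_res (heven : Even (Nat.card G)) (hO' : Cfsg.pPrimeCore 2 G = ⊥)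
    (hO : Cfsg.pCore 2 G = ⊥) {S : Subgroup G} (hS : SylIn 2 S ⊤) :
    ∃ z, Zi S z ∧ z ∈ Cfsg.pResidual 2 G := by
  haveI : Fact (Nat.Prime 2) := ⟨Nat.prime_two⟩
  set H := Cfsg.pResidual 2 G with hH
  have hne : S ⊓ H ≠ ⊥ := by
    intro e
    have hR : SylIn 2 (S ⊓ H) H := hS.inf_normal le_top (by rw [Subgroup.normalizer_eq_top])
    have h1 : ¬ 2 ∣ Nat.card H := by
      have := hR.not_dvd
      rwa [e, Subgroup.relIndex_bot_left] at this
    have h2 : H = ⊥ := le_bot_iff.1 (hO' ▸ le_pPrimeCore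
      ((Nat.Prime.coprime_iff_not_dvd Nat.prime_two).2 h1).symm)
    have h3 : (⊤ : Subgroup G) ≤ Cfsg.pCore 2 G := by
      refine le_pCore ?_
      rw [← pResidual_sup hS, ← hH, h2, bot_sup_eq]
      exact hS.isPGroup
    rw [hO] at h3
    have h4 := Subgroup.card_le_of_le h3
    rw [Subgroup.card_top, Subgroup.card_bot] at h4
    obtain ⟨k, hk⟩ := heven
    have := Nat.card_pos (α := G)
    omega
  haveI : Nontrivial ↥(H.subgroupOf S) := by
    rw [Subgroup.nontrivial_iff_ne_bot]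
    intro e
    refine hne ((Subgroup.eq_bot_iff_forall _).2 fun x hx => ?_)
    have : (⟨x, hx.1⟩ : S) ∈ H.subgroupOf S := hx.2
    rw [e, Subgroup.mem_bot] at this
    exact congrArg Subtype.val this
  obtain ⟨c, hcH, hcc, hc1⟩ := Perm.exists_ne_one_center hS.isPGroup (H.subgroupOf S)
  set W : Subgroup S := H.subgroupOf S ⊓ Subgroup.center S
  have h2W : 2 ∣ Nat.card W := by
    obtain ⟨k, hk⟩ := IsPGroup.iff_card.1 (hS.isPGroup.to_subgroup W)
    rw [hk]
    refine dvd_pow_self 2 fun h0 => ?_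
    rw [h0, pow_zero] at hk
    have := (Nat.card_eq_one_iff_unique.1 hk).1.elim ⟨c, hcH, hcc⟩ 1
    exact hc1 (congrArg Subtype.val this)
  obtain ⟨w, hw⟩ := exists_prime_orderOf_dvd_card' 2 h2W
  refine ⟨((w : S) : G), ⟨?_, (w : S).2, fun s hs => ?_⟩, w.2.1⟩
  · rw [Subgroup.orderOf_coe, Subgroup.orderOf_coe, hw]
  · exact congrArg Subtype.val (Subgroup.mem_center_iff.1 w.2.2 ⟨s, hs⟩)

theorem zOm_cj_zi {L : Subgroup G} [hL : L.Normal] {S : Subgroup G} (hS : SylIn 2 S ⊤)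
    (h : ∀ z, Zi S z → z ∈ L) : ∀ P : Subgroup G, SylIn 2 P ⊤ → ∀ z, Zi P z → z ∈ L := by
  haveI : Fact (Nat.Prime 2) := ⟨Nat.prime_two⟩
  intro P hP z hz
  obtain ⟨g, -, rfl⟩ := hS.conj_eq hP
  have h1 := hz.cj g⁻¹
  rw [cj_cj_inv] at h1
  have h2 := hL.conj_mem _ (h _ h1) g
  simpa [mul_assoc] using h2

theorem ctx_of {L : Subgroup G} [hL : L.Normal] (h : Hyp G) (hres : Cfsg.pResidual 2 G ≤ L)
    {S : Subgroup G} (hS : SylIn 2 S ⊤) (hc : Cut L S) (hz : ∀ z, Zi S z → z ∈ L) : Ctx L := by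
  haveI : Fact (Nat.Prime 2) := ⟨Nat.prime_two⟩
  refine ⟨h, hL, hres, fun P hP => ?_, zOm_cj_zi hS hz⟩
  obtain ⟨g, -, rfl⟩ := hS.conj_eq hP
  exact hc.cj g

theorem res_zOm_normal {S : Subgroup G} (hS : SylIn 2 S ⊤) : (Cfsg.pResidual 2 G ⊔ zOm S).Normal := by
  set X := Cfsg.pResidual 2 G ⊔ zOm S with hX
  have hXn : X.Normal := ⟨fun x hx g => by
    obtain ⟨a, ha, s, hs, rfl⟩ := Subgroup.mem_sup_of_normal_left.1
      ((pResidual_sup hS).ge (Subgroup.mem_top g))
    have key : X ≤ X.comap (MulAut.conj (a * s)).toMonoidHom := by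
      refine sup_le (fun w hw => Subgroup.mem_sup_left
        ((inferInstance : (Cfsg.pResidual 2 G).Normal).conj_mem w hw _)) fun w hw => ?_
      show a * s * w * (a * s)⁻¹ ∈ X
      rw [show a * s * w * (a * s)⁻¹ = (a * (w * a⁻¹ * w⁻¹)) * w by
        rw [mul_assoc a s w, (mem_zOm.1 hw).2.1 s hs]; group]
      exact mul_mem (Subgroup.mem_sup_left
        (mul_mem ha ((inferInstance : (Cfsg.pResidual 2 G).Normal).conj_mem _ (inv_mem ha) w)))
        (Subgroup.mem_sup_right hw)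
    exact key hx⟩
  exact hXn

/-- The two main alternatives. -/
theorem alternatives {L : Subgroup G} (c : Ctx L) (heven : Even (Nat.card G))
    (hO' : Cfsg.pPrimeCore 2 G = ⊥) (hO : Cfsg.pCore 2 G = ⊥) {S : Subgroup G} (hS : SylIn 2 S ⊤) :
    (∃ M : Subgroup ↥(Cfsg.pResidual 2 G), Cfsg.IsStronglyEmbedded M) ∨
      Cfsg.IsCharacteristicTwoType ↥(Cfsg.pResidual 2 G ⊔ zOm S) := by
  haveI : Fact (Nat.Prime 2) := ⟨Nat.prime_two⟩
  haveI := c.norm
  obtain ⟨z, hz, hzH⟩ := exists_zi_res heven hO' hO hS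
  by_cases hK : kG L S = ⊥
  · right
    set X := Cfsg.pResidual 2 G ⊔ zOm S with hX
    have hXL : X ≤ L := sup_le c.res fun x hx => by
      by_cases h1 : x = 1
      · rw [h1]; exact one_mem L
      · exact c.zi S hS x (zi_of_mem hx h1)
    have hXn : X.Normal := res_zOm_normal hS
    have hth : ∀ t ∈ L, orderOf t = 2 → th t = ⊥ := fun t htL h2 => by
      obtain ⟨P, hP, htP⟩ := exists_sylIn_ge (isPGroup_zpowers h2) (le_top : Subgroup.zpowers t ≤ ⊤)
      obtain ⟨g, -, rfl⟩ := hS.conj_eq hP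
      have h1 : kG L (Fusion.cj S g) = ⊥ := by rw [← kG_cj, hK, cj_bot]
      exact le_bot_iff.1 (h1 ▸ th_le_kG (htP (Subgroup.mem_zpowers t)) htL h2)
    refine Cfsg.Agent.S0505.result ?_ (fun t ht => ?_) (fun t ht => ?_)
    · rw [even_iff_two_dvd, ← hz.ord, ← Subgroup.orderOf_mk z (Subgroup.mem_sup_left hzH : z ∈ X)]
      exact orderOf_dvd_natCard _
    · haveI := c.hyp.solv (t : G) (by rw [Subgroup.orderOf_coe, ht])
      refine Group.isSolvable_of_isSolvable_injective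
        (f := (X.subtype.comp (Subgroup.centralizer ({t} : Set ↥X)).subtype).codRestrict
          (Subgroup.centralizer ({(t : G)} : Set G))
          fun w => Subgroup.mem_centralizer_singleton_iff.2
            (congrArg Subtype.val (Subgroup.mem_centralizer_singleton_iff.1 w.2)))
        fun a b e => Subtype.ext (Subtype.ext (congrArg Subtype.val e :))
    · obtain ⟨C, hC⟩ : ∃ C, C = Subgroup.centralizer ({t} : Set ↥X) := ⟨_, rfl⟩
      set D := (Cfsg.oddCore ↥(Subgroup.centralizer ({t} : Set ↥X))).map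
        (X.subtype.comp (Subgroup.centralizer ({t} : Set ↥X)).subtype) with hD
      have hinj : Function.Injective (X.subtype.comp (Subgroup.centralizer ({t} : Set ↥X)).subtype) :=
        fun a b e => Subtype.ext (Subtype.ext e)
      have hDC : D ≤ Subgroup.centralizer ({(t : G)} : Set G) := by
        rintro _ ⟨o, -, rfl⟩
        exact Subgroup.mem_centralizer_singleton_iff.2
          (congrArg Subtype.val (Subgroup.mem_centralizer_singleton_iff.1 o.2))
      have hn : Subgroup.centralizer ({(t : G)} : Set G) ≤ Subgroup.normalizer (D : Set G) := by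
        intro g hg
        have hgt := Subgroup.mem_centralizer_singleton_iff.1 hg
        let e1 : ↥X ≃* ↥X := (MulAut.conjNormal (H := X) g : MulAut ↥X)
        have he1 : e1 t = t := Subtype.ext (by
          show g * (t : G) * g⁻¹ = t
          rw [hgt, mul_inv_cancel_right])
        have hmap : (Subgroup.centralizer ({t} : Set ↥X)).map e1.toMonoidHom =
            Subgroup.centralizer ({t} : Set ↥X) := by
          refine Subgroup.eq_of_le_of_card_ge ?_ (Subgroup.card_map_of_injective e1.injective).ge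
          rintro _ ⟨w, hw, rfl⟩
          refine Subgroup.mem_centralizer_singleton_iff.2 ?_
          show e1 w * t = t * e1 w
          rw [← he1, ← map_mul, ← map_mul, Subgroup.mem_centralizer_singleton_iff.1 hw]
        let e2 := (e1.subgroupMap (Subgroup.centralizer ({t} : Set ↥X))).trans (MulEquiv.subgroupCongr hmap)
        refine mem_normalizer_of_cj_le ?_
        rintro _ ⟨_, ⟨o, ho, rfl⟩, rfl⟩
        exact ⟨e2 o, map_pPrimeCore_le e2 ⟨o, ho, rfl⟩, rfl⟩
      have hDn := Subgroup.normal_subgroupOf_iff_le_normalizer hDC |>.2 hn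
      have hDth : D ≤ th (t : G) := fun d hd => ⟨⟨d, hDC hd⟩,
        le_pPrimeCore (N := D.subgroupOf _) (by
          rw [Nat.card_congr (Subgroup.subgroupOfEquivOfLe hDC).toEquiv, hD,
            Subgroup.card_map_of_injective hinj]
          exact card_pPrimeCore_coprime 2 _) hd, rfl⟩
      rw [hth (t : G) (hXL t.2) (by rw [Subgroup.orderOf_coe, ht]), le_bot_iff, hD] at hDth
      exact (Subgroup.map_eq_bot_iff_of_injective _ hinj).1 hDth
  · left
    set H := Cfsg.pResidual 2 G with hH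
    set K := kG L S with hKdef
    refine ⟨(Subgroup.normalizer (K : Set G)).subgroupOf H,
      (Cfsg.Agent.S0223.result _ ?_ ?_).2 ⟨?_, ?_⟩⟩
    · intro e
      have hle : H ≤ Subgroup.normalizer (K : Set G) := Subgroup.subgroupOf_eq_top.1 e
      have htop : Subgroup.normalizer (K : Set G) = ⊤ := by
        rw [eq_top_iff, ← pResidual_sup hS]
        exact sup_le hle fun x hx => kG_norm (Subgroup.le_normalizer hx)
      haveI : K.Normal := Subgroup.normalizer_eq_top_iff.1 htop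
      exact hK (le_bot_iff.1 (hO' ▸ le_pPrimeCore (Nat.coprime_two_right.2 (c.cut S hS).odd)))
    · rw [even_iff_two_dvd, ← hz.ord,
        ← Subgroup.orderOf_mk z hzH,
        ← Subgroup.orderOf_mk (⟨z, hzH⟩ : ↥H)
          (show (⟨z, hzH⟩ : ↥H) ∈ (Subgroup.normalizer (K : Set G)).subgroupOf H from
            kG_norm (Subgroup.le_normalizer hz.mem))]
      exact orderOf_dvd_natCard _
    · intro t ht h2 g hg
      have hgt := congrArg Subtype.val (Subgroup.mem_centralizer_singleton_iff.1 hg)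
      exact c.fusion hS (t := (t : G)) (s := (t : G)) (by rw [Subgroup.orderOf_coe, h2]) t.2 ht t.2 ht
        (show (g : G) * t * (g : G)⁻¹ = t by
          rw [show (g : G) * t = t * g from hgt, mul_inv_cancel_right])
    · intro t ht s hs h2 _ hconj
      obtain ⟨g, hg⟩ := isConj_iff.1 hconj
      exact ⟨g, c.fusion hS (by rw [Subgroup.orderOf_coe, h2]) t.2 ht s.2 hs (congrArg Subtype.val hg), hg⟩

theorem card_inf_two {S : Subgroup G} {z : G} (hz : Zi S z) {H : Subgroup G} (hzH : z ∈ H)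
    (h : Nat.card ↥(zOm S) = 2 ∨ (Nat.card ↥(zOm S) = 4 ∧ ¬ zOm S ≤ H)) :
    Nat.card ↥(zOm S ⊓ H) = 2 := by
  have hd := Subgroup.card_dvd_of_le (inf_le_left : zOm S ⊓ H ≤ zOm S)
  have h2 : 2 ≤ Nat.card ↥(zOm S ⊓ H) := by
    have := Subgroup.card_le_of_le
      (Subgroup.zpowers_le.2 ⟨hz.mem_zOm', hzH⟩ : Subgroup.zpowers z ≤ zOm S ⊓ H)
    rwa [Nat.card_zpowers, hz.ord] at this
  rcases h with h | ⟨h, hn⟩
  · rw [h] at hd
    have := Nat.le_of_dvd (by norm_num) hd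
    omega
  · rw [h] at hd
    have h4 : Nat.card ↥(zOm S ⊓ H) ≠ 4 := fun e => hn (by
      have := Subgroup.eq_of_le_of_card_ge (inf_le_left : zOm S ⊓ H ≤ zOm S) (by rw [e, h])
      exact inf_eq_left.1 this)
    have := Nat.le_of_dvd (by norm_num) hd
    interval_cases hc : Nat.card ↥(zOm S ⊓ H) <;> simp_all

theorem main (h : Hyp G) (heven : Even (Nat.card G)) (hO' : Cfsg.pPrimeCore 2 G = ⊥)
    (hO : Cfsg.pCore 2 G = ⊥) {S : Subgroup G} (hS : SylIn 2 S ⊤) :
    (∃ M : Subgroup ↥(Cfsg.pResidual 2 G), Cfsg.IsStronglyEmbedded M) ∨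
    (Nat.card ↥(zOm S ⊓ Cfsg.pResidual 2 G) = 2 ∧
      ∀ g ∈ Cfsg.pResidual 2 G, ∀ z ∈ zOm S ⊓ Cfsg.pResidual 2 G, g * z * g⁻¹ ∈ S → g * z * g⁻¹ ∈ zOm S) ∨
    (Nat.card ↥(zOm S) = 4 ∧ Cfsg.omegaOne 2 (S ⊓ Cfsg.pResidual 2 G) = zOm S) ∨
    Cfsg.IsCharacteristicTwoType ↥(Cfsg.pResidual 2 G ⊔ zOm S) := by
  haveI : Fact (Nat.Prime 2) := ⟨Nat.prime_two⟩
  obtain ⟨z, hz, hzH⟩ := exists_zi_res heven hO' hO hS
  set H := Cfsg.pResidual 2 G with hH
  have lift : (∃ M : Subgroup ↥H, Cfsg.IsStronglyEmbedded M) ∨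
      Cfsg.IsCharacteristicTwoType ↥(H ⊔ zOm S) →
    ((∃ M : Subgroup ↥H, Cfsg.IsStronglyEmbedded M) ∨
    (Nat.card ↥(zOm S ⊓ H) = 2 ∧
      ∀ g ∈ H, ∀ z ∈ zOm S ⊓ H, g * z * g⁻¹ ∈ S → g * z * g⁻¹ ∈ zOm S) ∨
    (Nat.card ↥(zOm S) = 4 ∧ Cfsg.omegaOne 2 (S ⊓ H) = zOm S) ∨
    Cfsg.IsCharacteristicTwoType ↥(H ⊔ zOm S)) := fun h' =>
    h'.elim Or.inl fun h2 => Or.inr (Or.inr (Or.inr h2))
  by_cases hsing : ∀ w, Zi S w → w = z
  · have hs : Single S z := ⟨hz, hsing⟩
    by_cases hf : ∃ g ∈ H, g * z * g⁻¹ ∈ S ∧ g * z * g⁻¹ ≠ z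
    · obtain ⟨g, -, hg⟩ := hf
      haveI : H.Normal := inferInstanceAs (Cfsg.pResidual 2 G).Normal
      exact lift (alternatives (ctx_of h le_rfl hS (cut_single h hS hs ⟨g, hg⟩)
        fun w hw => hsing w hw ▸ hzH) heven hO' hO hS)
    · refine Or.inr (Or.inl ⟨card_inf_two hz hzH (Or.inl ?_), fun g hg w hw hgw => ?_⟩)
      · have : zOm S = Subgroup.zpowers z := le_antisymm (fun x hx => by
          by_cases h1 : x = 1
          · rw [h1]; exact one_mem _
          · rw [hsing x (zi_of_mem hx h1)]; exact Subgroup.mem_zpowers z)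
          (Subgroup.zpowers_le.2 hz.mem_zOm')
        rw [this, Nat.card_zpowers, hz.ord]
      · by_cases h1 : w = 1
        · rw [h1, mul_one, mul_inv_cancel]; exact one_mem _
        · obtain rfl := hsing w (zi_of_mem hw.1 h1)
          push Not at hf
          rw [hf g hg hgw]; exact hz.mem_zOm'
  · push Not at hsing
    obtain ⟨w, hw, hwz⟩ := hsing
    by_cases hall : ∀ v ∈ S, orderOf v = 2 → Good S v
    · exact lift (alternatives (ctx_of (L := ⊤) h le_top hS
        (cut_good h hS.isPGroup ⟨z, hall z hz.mem hz.ord⟩ hall)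
        fun _ _ => Subgroup.mem_top _) heven hO' hO hS)
    push Not at hall
    obtain ⟨v, hvS, hv2, hv⟩ := hall
    have f : Four z w := ⟨hz.ord, hw.ord, (hz.comm w hw.mem).symm, fun e => hwz e.symm⟩
    have hinv : ∀ x ∈ S, x * x = 1 → x ∈ f.grp := by
      intro x hx hxx
      by_contra hn
      have hB := f.extend hxx (hz.comm x hx) (hw.comm x hx) hn
      have hBS : f.grp ⊔ Subgroup.zpowers x ≤ S :=
        sup_le (f.grp_le hz.mem hw.mem) (Subgroup.zpowers_le.2 hx)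
      by_cases hvg : v ∈ f.grp
      · exact hv ⟨ne_one hv2, _, hBS, hB, Subgroup.mem_sup_left hvg⟩
      · exact hv ⟨ne_one hv2, _, sup_le (f.grp_le hz.mem hw.mem) (Subgroup.zpowers_le.2 hvS),
          f.extend (sq_one hv2) (hz.comm v hvS) (hw.comm v hvS) hvg,
          Subgroup.mem_sup_right (Subgroup.mem_zpowers v)⟩
    have hzO : zOm S = f.grp := le_antisymm (fun x hx => hinv x (mem_zOm.1 hx).1 (mem_zOm.1 hx).2.2)
      (f.grp_le hz.mem_zOm' hw.mem_zOm')
    have h4 : Nat.card ↥(zOm S) = 4 := by rw [hzO]; exact le_antisymm f.le_four f.four_le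
    by_cases hle : zOm S ≤ H
    · refine Or.inr (Or.inr (Or.inl ⟨h4, le_antisymm ((Subgroup.closure_le _).2 fun x hx => ?_) fun x hx =>
        Subgroup.subset_closure ⟨⟨(mem_zOm.1 hx).1, hle hx⟩, by rw [pow_two]; exact (mem_zOm.1 hx).2.2⟩⟩))
      rw [hzO]
      exact hinv x hx.1.1 (by rw [← pow_two]; exact hx.2)
    · refine Or.inr (Or.inl ⟨card_inf_two hz hzH (Or.inr ⟨h4, hle⟩), fun g _ x hx hgx => ?_⟩)
      rw [hzO]
      refine hinv _ hgx ?_
      rw [show g * x * g⁻¹ * (g * x * g⁻¹) = g * (x * x) * g⁻¹ by group, (mem_zOm.1 hx.1).2.2]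
      group

end Cfsg.Agent.ZnGroup
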