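import Cfsg.Agent.Lib.Lead.ZnGroup.TwoGrp

/-!
# The cores of the involutions of a Sylow 2-subgroup are cut out by one group of odd order
-/

set_option autoImplicit false
set_option linter.unusedSectionVars false
set_option linter.style.haveILetI false
open Cfsg.Agent.Fusion

namespace Cfsg.Agent.ZnGroup

universe u

variable {G : Type u} [Group G] [Finite G]

/-- The join of the cores of the involutions in `S ∩ L`. -/
def kG (L S : Subgroup G) : Subgroup G := ⨆ u : {u : G // u ∈ S ∧ u ∈ L ∧ orderOf u = 2}, th u.1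

theorem th_le_kG {L S : Subgroup G} {u : G} (hS : u ∈ S) (hL : u ∈ L) (h2 : orderOf u = 2) :
    th u ≤ kG L S :=
  le_iSup (fun u : {u : G // u ∈ S ∧ u ∈ L ∧ orderOf u = 2} => th u.1) ⟨u, hS, hL, h2⟩

/-- `K(S)` has odd order and cuts out the cores. -/
structure Cut (L S : Subgroup G) : Prop where
  odd : Odd (Nat.card ↥(kG L S))
  cut : ∀ u ∈ S, u ∈ L → orderOf u = 2 → ∀ w ∈ kG L S, w * u = u * w → w ∈ th u

theorem Cut.of {L S : Subgroup G} (W : Subgroup G) (hW : Odd (Nat.card W))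
    (h : ∀ u ∈ S, u ∈ L → orderOf u = 2 → th u ≤ W ∧ ∀ w ∈ W, w * u = u * w → w ∈ th u) : Cut L S := by
  have hle : kG L S ≤ W := iSup_le fun u => (h u u.2.1 u.2.2.1 u.2.2.2).1
  exact ⟨hW.of_dvd_nat (Subgroup.card_dvd_of_le hle),
    fun u hu hL h2 w hw e => (h u hu hL h2).2 w (hle hw) e⟩

theorem cut_good (h : Hyp G) {L S : Subgroup G} (hS : IsPGroup 2 S) (hne : ∃ u, Good S u)
    (hall : ∀ u ∈ S, orderOf u = 2 → Good S u) : Cut L S := by
  obtain ⟨u₀, hu₀⟩ := hne
  refine Cut.of (wG S) (wG_spec h hS hu₀).1 fun u hu _ h2 => ?_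
  exact ⟨th_le_wG (hall u hu h2), (wG_spec h hS (hall u hu h2)).2⟩

theorem Good.mono {S T : Subgroup G} {u : G} (hu : Good S u) (hle : S ≤ T) : Good T u := by
  obtain ⟨h1, A, hA, h2, h3⟩ := hu
  exact ⟨h1, A, hA.trans hle, h2, h3⟩

theorem Big.good_center {S A : Subgroup G} (hA : Big A) (hAS : A ≤ S) {z : G} (hz : Zi S z) : Good S z := by
  refine ⟨ne_one hz.ord, A ⊔ Subgroup.zpowers z, sup_le hAS (Subgroup.zpowers_le.2 hz.mem), ⟨?_, ?_⟩,
    Subgroup.mem_sup_right (Subgroup.mem_zpowers z)⟩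
  · refine Local.elemAb_sup hA.elem (Local.elemAb_zpowers (by rw [pow_two]; exact sq_one hz.ord)) ?_
    intro a ha b hb
    obtain ⟨j, rfl⟩ := Subgroup.mem_zpowers_iff.1 hb
    exact ((show Commute a z from hz.comm a (hAS ha)).zpow_right j).eq
  · exact hA.eight.trans (Subgroup.card_le_of_le le_sup_left)

theorem NF.good_of_comm (h : Hyp G) {S A : Subgroup G} (hA : Big A) (hAS : A ≤ S) {z y : G} (n : NF S z y)
    {u : G} (hu : u ∈ S) (h2 : orderOf u = 2) (hc : u * y = y * u) : Good S u := by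
  by_cases hg : u ∈ n.four.grp
  · obtain ⟨-, B, hBS, hB, hzB, hyB⟩ := n.big h hA hAS
    exact ⟨ne_one h2, B, hBS, hB, n.four.grp_le hzB hyB hg⟩
  · exact ⟨ne_one h2, _, sup_le (n.four.grp_le n.zi.mem n.mem) (Subgroup.zpowers_le.2 hu),
      n.four.extend (sq_one h2) (n.zi.comm u hu) hc hg,
      Subgroup.mem_sup_right (Subgroup.mem_zpowers u)⟩

theorem th_eq_of_single (h : Hyp G) {S : Subgroup G} {z : G} (hz : Single S z) (hS : SylIn 2 S ⊤) {t : G}
    (ht : t ∈ S) (h2 : orderOf t = 2) : th z ≤ th t := fun d hd =>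
  th_balance h hz.1.ord h2 (hz.1.comm t ht).symm hd (hz.th_comm' h hS hd ht)

/-- A bad involution of `S ∩ O²(G)`. -/
theorem bad_cut (h : Hyp G) {S : Subgroup G} (hS : SylIn 2 S ⊤) {z : G} (hz : Single S z) {A : Subgroup G}
    (hA : Big A) (hAS : A ≤ S) {u : G} (huS : u ∈ S) (huH : u ∈ Cfsg.pResidual 2 G) (h2 : orderOf u = 2)
    (hbad : ¬ Good S u) : th u ≤ wG S ∧ ∀ w ∈ wG S, w * u = u * w → w ∈ th u := by
  haveI : Fact (Nat.Prime 2) := ⟨Nat.prime_two⟩
  have hzg : Good S z := hA.good_center hAS hz.1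
  have hzu : z * u = u * z := (hz.1.comm u huS).symm
  obtain ⟨z0, y, n⟩ := exists_nf hS.isPGroup hA hAS
  have ez0 := hz.2 z0 n.zi
  subst z0
  -- a conjugate of `u` is good in `S`
  obtain ⟨g, hgT, hgS⟩ := transfer hS (half fun s hs => n.act s hs) h2 huS huH
  have hgood := (n.good_of_comm h hA hAS hgS ((orderOf_conj g u).trans h2)
    (Subgroup.mem_centralizer_singleton_iff.1 hgT)).cj g⁻¹
  rw [show g⁻¹ * (g * u * g⁻¹) * g⁻¹⁻¹ = u by group] at hgood
  obtain ⟨-, E, -, hE, huE⟩ := hgood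
  -- a Sylow subgroup containing `C_S(u)` in which `u` is good
  set C := Subgroup.centralizer ({u} : Set G) with hC
  obtain ⟨P, hP, hQP⟩ := exists_sylIn_ge (hS.isPGroup.to_inf_left (K := C)) inf_le_right
  have hEC : E ≤ C := fun e he =>
    Subgroup.mem_centralizer_singleton_iff.2 (Local.elemAb_commute hE.elem he huE)
  obtain ⟨c, hc, hcE⟩ := hP.conj_le (show IsPGroup 2 E from fun e => ⟨1, Subtype.ext (by
    simpa using hE.elem.2 e e.2)⟩) hEC
  have huP : Good (Fusion.cj E c) u := by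
    have := Good.cj (⟨ne_one h2, E, le_rfl, hE, huE⟩ : Good E u) c
    rwa [show c * u * c⁻¹ = u by
      rw [Subgroup.mem_centralizer_singleton_iff.1 hc, mul_inv_cancel_right]] at this
  obtain ⟨S', hS', hPS'⟩ := exists_sylIn_ge hP.isPGroup (le_top : P ≤ ⊤)
  have hu' : Good S' u := huP.mono (hcE.trans hPS')
  have huS' : u ∈ S' := by
    obtain ⟨-, B, hB, -, huB⟩ := hu'
    exact hB huB
  have hzS' : z ∈ S' := hPS' (hQP ⟨hz.1.mem, Subgroup.mem_centralizer_singleton_iff.2 hzu⟩)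
  obtain ⟨g', -, rfl⟩ := hS.conj_eq hS'
  obtain ⟨z', hz', hz'e⟩ : ∃ z', Single (Fusion.cj S g') z' ∧ z' = g' * z * g'⁻¹ := ⟨_, hz.cj g', rfl⟩
  set S' := Fusion.cj S g' with hS'def
  have sp := wG_spec h hS'.isPGroup hu'
  by_cases hzg' : Good S' z
  · obtain ⟨-, B, hBS', hB, hzB⟩ := hzg'
    have hBS : B ≤ S := hz.le_of_two h hS (hS'.isPGroup.to_le hBS')
      fun x hx => Local.elemAb_commute hB.elem hx hzB
    have e : wG S = wG S' := by rw [wG_eq h hS.isPGroup hB hBS, wG_eq h hS'.isPGroup hB hBS']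
    rw [e]
    exact ⟨th_le_wG hu', sp.2⟩
  obtain ⟨-, B, hBS', hB, huB⟩ := hu'
  have hu' : Good S' u := ⟨ne_one h2, B, hBS', hB, huB⟩
  have hz'g : Good S' z' := hB.good_center hBS' hz'.1
  have hne : z ≠ z' := fun e => hzg' (e.symm ▸ hz'g)
  have hneu : z ≠ u := fun e => hbad (e ▸ hzg)
  have f : Four z u := ⟨hz.1.ord, h2, hzu, hneu⟩
  have hmem : z' ∈ f.grp := by
    by_contra hn
    exact hzg' ⟨ne_one hz.1.ord, _, sup_le (f.grp_le hzS' huS') (Subgroup.zpowers_le.2 hz'.1.mem),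
      f.extend (sq_one hz'.1.ord) (hz'.1.comm z hzS').symm (hz'.1.comm u huS').symm hn,
      Subgroup.mem_sup_left f.mem_left⟩
  have hzz' : z * z' = z' * z := hz'.1.comm z hzS'
  rcases hmem with e | e | e | e
  · exact absurd e (ne_one hz'.1.ord)
  · exact absurd e.symm hne
  · -- `u` is the central involution of `S'`
    have hle : th u ≤ th z := e ▸ th_eq_of_single h hz' hS' hzS' hz.1.ord
    have hge : th z ≤ th u := th_eq_of_single h hz hS huS h2
    refine ⟨hle.trans (th_le_wG hzg), fun w hw hwu => hge ?_⟩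
    refine (wG_spec h hS.isPGroup hzg).2 w hw ?_
    exact comm_of_norm (wG_spec h hS.isPGroup hzg).1 hS'.isPGroup hw hzS'
      (wG_norm (Subgroup.le_normalizer hz.1.mem)) (hz'.norm h hS' (by rw [e]; exact hwu))
  · -- `zu` is the central involution of `S'`
    have huW : u ∈ Subgroup.normalizer (wG S' : Set G) := wG_norm (Subgroup.le_normalizer huS')
    have hzW : z ∈ Subgroup.normalizer (wG S' : Set G) := wG_norm (Subgroup.le_normalizer hzS')
    have hWu : wG S' ≤ C := by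
      refine le_sig f sp.1 hzW huW (fun w hw hwz => ?_)
        (fun w _ hwu => Subgroup.mem_centralizer_singleton_iff.2 hwu) (fun w hw hwz' => ?_)
      · exact Subgroup.mem_centralizer_singleton_iff.2
          (comm_of_norm sp.1 hS.isPGroup hw huS huW (hz.norm h hS hwz))
      · rw [show z * u = z' from e.symm] at hwz'
        exact Subgroup.mem_centralizer_singleton_iff.2
          (hz'.th_comm' h hS' ((wG_spec h hS'.isPGroup hz'g).2 w hw hwz') huS')
    have hWeq : wG S' = th u :=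
      le_antisymm (fun w hw => sp.2 w hw (Subgroup.mem_centralizer_singleton_iff.1 (hWu hw))) (th_le_wG hu')
    obtain ⟨z1, y', n'⟩ := exists_nf hS'.isPGroup hB hBS'
    have ez1 := hz'.2 z1 n'.zi
    subst z1
    have huy : ¬ u * y' = y' * u := fun hc' => by
      refine hzg' (n'.good_of_comm h hB hBS' hzS' hz.1.ord ?_)
      have hz1y : z' * y' = y' * z' := (n'.zi.comm y' n'.mem).symm
      have ez : z = z' * u := by rw [e, mul_assoc, sq_one h2, mul_one]
      rw [ez, mul_assoc, hc', ← mul_assoc, hz1y, mul_assoc]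
    have hact : u * y' * u⁻¹ = z' * y' :=
      (n'.act u huS').resolve_left fun e' => huy (mul_inv_eq_iff_eq_mul.1 e')
    have hzy2 : orderOf (z' * y') = 2 := n'.four.hab
    have hgy : Good S' y' := n'.good_of_comm h hB hBS' n'.mem n'.hy rfl
    have hgzy : Good S' (z' * y') := n'.good_of_comm h hB hBS' (mul_mem hz'.1.mem n'.mem) hzy2 (by
      rw [mul_assoc, ← mul_assoc y', ← n'.four.comm]; group)
    have hcu : ∀ d ∈ wG S', u * d * u⁻¹ = d := fun d hd => by
      rw [(Subgroup.mem_centralizer_singleton_iff.1 (hWu hd)).symm, mul_inv_cancel_right]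
    have hboth : ∀ d ∈ wG S', (d * y' = y' * d ↔ d * (z' * y') = z' * y' * d) := fun d hd => by
      have e1 : u * (d * y') * u⁻¹ = d * (z' * y') := by
        rw [← hact]; nth_rewrite 2 [← hcu d hd]; group
      have e2 : u * (y' * d) * u⁻¹ = z' * y' * d := by
        rw [← hact]; nth_rewrite 2 [← hcu d hd]; group
      rw [← e1, ← e2, mul_left_inj, mul_right_inj]
    have hW' : wG S' ≤ th z' := by
      obtain ⟨hw', -⟩ := n'.big h hB hBS'
      rw [wG_eq h hS'.isPGroup hB hBS', hw']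
      have hzd : ∀ d, d * y' = y' * d → d * (z' * y') = z' * y' * d → d * z' = z' * d := fun d p q => by
        have hd : Commute d (z' * y') := q
        have hy' : Commute d y'⁻¹ := (show Commute d y' from p).inv_right
        have := (hd.mul_right hy').eq
        rwa [mul_inv_cancel_right] at this
      refine Four.sig3_le le_rfl (fun d hd => ?_) (fun d hd => ?_)
      · exact th_balance h n'.hy hz'.1.ord n'.four.comm.symm hd
          (hzd d (th_comm hd) ((hboth d (th_le_wG hgy hd)).1 (th_comm hd)))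
      · refine th_balance h hzy2 hz'.1.ord ?_ hd
          (hzd d ((hboth d (th_le_wG hgzy hd)).2 (th_comm hd)) (th_comm hd))
        rw [mul_assoc, ← n'.four.comm]
    have hDD : th z' = th z := le_antisymm (th_eq_of_single h hz' hS' hzS' hz.1.ord)
      (th_eq_of_single h hz hS (by rw [e]; exact mul_mem hz.1.mem huS) hz'.1.ord)
    have hW'W : wG S' ≤ wG S := (hW'.trans hDD.le).trans (th_le_wG hzg)
    have hWW : wG S' = wG S := Subgroup.eq_of_le_of_card_ge hW'W (by
      rw [hS'def, ← wG_cj, card_cj])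
    rw [← hWW]
    exact ⟨th_le_wG hu', sp.2⟩

/-- Every involution of `S ∩ O²(G)` is conjugate to `z` when `S` has rank two. -/
theorem conj_z (h : Hyp G) {S : Subgroup G} (hS : SylIn 2 S ⊤) {z : G} (hz : Single S z)
    (hno : ∀ A : Subgroup G, A ≤ S → ¬ Big A) (hf : ∃ g, g * z * g⁻¹ ∈ S ∧ g * z * g⁻¹ ≠ z) {u : G}
    (huS : u ∈ S) (huH : u ∈ Cfsg.pResidual 2 G) (h2 : orderOf u = 2) : ∃ g, u = g * z * g⁻¹ := by
  haveI : Fact (Nat.Prime 2) := ⟨Nat.prime_two⟩
  obtain ⟨g₀, hz'S, hne⟩ := hf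
  have hS' := sylIn_cj hS g₀
  obtain ⟨z', hz', hz'e⟩ : ∃ z', Single (Fusion.cj S g₀) z' ∧ z' = g₀ * z * g₀⁻¹ := ⟨_, hz.cj g₀, rfl⟩
  rw [← hz'e] at hz'S hne
  set S' := Fusion.cj S g₀
  have hzz : z * z' = z' * z := (hz.1.comm z' hz'S).symm
  have hzS' : z ∈ S' := hz'.inv_mem' h hS' hz.1.ord hzz
  have f : Four z z' := ⟨hz.1.ord, hz'.1.ord, hzz, hne.symm⟩
  have hPS : ∀ x ∈ S, x * z' = z' * x → x ∈ S' := fun x hx e =>
    hz'.le_of_two h hS' (hS.isPGroup.to_inf_left (K := Subgroup.centralizer ({z'} : Set G)))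
      (fun w hw => Subgroup.mem_centralizer_singleton_iff.1 hw.2)
      ⟨hx, Subgroup.mem_centralizer_singleton_iff.2 e⟩
  have hPS' : ∀ x ∈ S', x * z = z * x → x ∈ S := fun x hx e =>
    hz.le_of_two h hS (hS'.isPGroup.to_inf_left (K := Subgroup.centralizer ({z} : Set G)))
      (fun w hw => Subgroup.mem_centralizer_singleton_iff.1 hw.2)
      ⟨hx, Subgroup.mem_centralizer_singleton_iff.2 e⟩
  have hV : ∀ x ∈ S, x * z' = z' * x → x * x = 1 → x ∈ f.grp := by
    intro x hx e hxx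
    by_contra hn
    exact hno _ (sup_le (f.grp_le hz.1.mem hz'S) (Subgroup.zpowers_le.2 hx))
      (f.extend hxx (hz.1.comm x hx) e hn)
  set P := S ⊓ S' with hPdef
  have hcomm : ∀ x ∈ P, x * z' = z' * x := fun x hx => hz'.1.comm x hx.2
  obtain ⟨s, hsS, hsN, hsP⟩ : ∃ s ∈ S, s ∈ Subgroup.normalizer (P : Set G) ∧ s ∉ P := by
    have hne' : P ≠ S := fun e => hne (hz.2 z' ⟨hz'.1.ord, hz'S, fun x hx => hcomm x (e ▸ hx)⟩)
    obtain ⟨s, hs, hs'⟩ := SetLike.exists_of_lt (SylIn.normalizer_growth (p := 2) inf_le_left hne' hS.isPGroup)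
    exact ⟨s, hs.1, hs.2, hs'⟩
  obtain ⟨t, htS, htN, htP⟩ : ∃ t ∈ S', t ∈ Subgroup.normalizer (P : Set G) ∧ t ∉ P := by
    have hne' : P ≠ S' := fun e => hne (hz'.2 z ⟨hz.1.ord, hzS', fun x hx => hz.1.comm x (e ▸ hx : x ∈ P).1⟩).symm
    obtain ⟨t, ht, ht'⟩ := SetLike.exists_of_lt (SylIn.normalizer_growth (p := 2) inf_le_right hne' hS'.isPGroup)
    exact ⟨t, ht.1, ht.2, ht'⟩
  have hsz : s * z * s⁻¹ = z := by rw [hz.1.comm s hsS, mul_inv_cancel_right]
  have htz' : t * z' * t⁻¹ = z' := by rw [hz'.1.comm t htS, mul_inv_cancel_right]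
  have hs1 : s * z' * s⁻¹ = z * z' := by
    have hm : s * z' * s⁻¹ ∈ P := (Subgroup.mem_normalizer_iff.1 hsN z').1 ⟨hz'S, hz'.1.mem⟩
    have ho := (orderOf_conj s z').trans hz'.1.ord
    rcases hV _ hm.1 (hcomm _ hm) (sq_one ho) with e | e | e | e
    · exact absurd e (ne_one ho)
    · exact absurd (mul_left_cancel (mul_right_cancel (e.trans hsz.symm))) hne
    · exact absurd (show s ∈ P from ⟨hsS, hPS s hsS (mul_inv_eq_iff_eq_mul.1 e)⟩) hsP
    · exact e
  have ht1 : t * z * t⁻¹ = z * z' := by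
    have hm : t * z * t⁻¹ ∈ P := (Subgroup.mem_normalizer_iff.1 htN z).1 ⟨hz.1.mem, hzS'⟩
    have ho := (orderOf_conj t z).trans hz.1.ord
    rcases hV _ hm.1 (hcomm _ hm) (sq_one ho) with e | e | e | e
    · exact absurd e (ne_one ho)
    · exact absurd (show t ∈ P from ⟨hPS' t htS (mul_inv_eq_iff_eq_mul.1 e), htS⟩) htP
    · exact absurd (mul_left_cancel (mul_right_cancel (e.trans htz'.symm))).symm hne
    · exact e
  have hVconj : ∀ x ∈ S, x * z' = z' * x → orderOf x = 2 → ∃ g, x = g * z * g⁻¹ := by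
    intro x hx e hx2
    rcases hV x hx e (sq_one hx2) with e' | e' | e' | e'
    · exact absurd e' (ne_one hx2)
    · exact ⟨1, by rw [e']; group⟩
    · exact ⟨g₀, e'.trans hz'e⟩
    · exact ⟨t, e'.trans ht1.symm⟩
  have conj_back : ∀ g, (∃ g', g * u * g⁻¹ = g' * z * g'⁻¹) → ∃ g', u = g' * z * g'⁻¹ := by
    rintro g ⟨g', e⟩
    exact ⟨g⁻¹ * g', by
      calc u = g⁻¹ * (g * u * g⁻¹) * g := by group
        _ = _ := by rw [e]; group⟩
  by_cases hnorm : ∀ x ∈ S, x * z' * x⁻¹ = z' ∨ x * z' * x⁻¹ = z * z'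
  · obtain ⟨g, hgT, hgS⟩ := transfer hS (half hnorm) h2 huS huH
    exact conj_back g (hVconj _ hgS (Subgroup.mem_centralizer_singleton_iff.1 hgT) ((orderOf_conj g u).trans h2))
  -- the centraliser of `z'` in `S` has order four
  have hC4 : ∀ x ∈ S, x * z' = z' * x → x ∈ f.grp := by
    intro x hx e
    by_contra hn
    have hxP : x ∈ P := ⟨hx, hPS x hx e⟩
    obtain ⟨k, hk⟩ := IsPGroup.iff_orderOf.1 hS.isPGroup ⟨x, hx⟩
    rw [← Subgroup.orderOf_coe] at hk
    rcases k with _ | _ | k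
    · exact hn (by rw [orderOf_eq_one_iff.1 (show orderOf x = 1 by simpa using hk)]; exact one_mem _)
    · exact hn (hV x hx e (sq_one (show orderOf x = 2 by simpa using hk)))
    · have hq : orderOf (x ^ 2 ^ k) = 4 := by
        rw [orderOf_pow_of_dvd (pow_ne_zero _ two_ne_zero) (by rw [show orderOf (⟨x, hx⟩ : S).1 = orderOf x from rfl] at *; rw [hk]; exact pow_dvd_pow 2 (by omega)), hk,
          show 2 ^ (k + 2) = 4 * 2 ^ k by ring, Nat.mul_div_cancel _ (by positivity)]
      set q := x ^ 2 ^ k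
      have hqP : q ∈ P := pow_mem hxP _
      have hqq : orderOf (q * q) = 2 := by rw [← pow_two, orderOf_pow_of_dvd two_ne_zero (by rw [hq]; norm_num), hq]
      obtain ⟨q', hq'P, hq'e⟩ : ∃ q' ∈ P, q' * q' = z' := by
        have hconj : ∀ a b : G, a * b * a⁻¹ * (a * b * a⁻¹) = a * (b * b) * a⁻¹ := fun a b => by group
        have step : ∀ w ∈ P, w * w = z * z' → ∃ q' ∈ P, q' * q' = z' := fun w hw ew => by
          refine ⟨s * w * s⁻¹, (Subgroup.mem_normalizer_iff.1 hsN w).1 hw, ?_⟩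
          rw [hconj, ew, show s * (z * z') * s⁻¹ = (s * z * s⁻¹) * (s * z' * s⁻¹) by group, hsz, hs1,
            ← mul_assoc, sq_one hz.1.ord, one_mul]
        rcases hV _ (mul_mem hqP.1 hqP.1) (hcomm _ (mul_mem hqP hqP)) (sq_one hqq) with e' | e' | e' | e'
        · exact absurd e' (ne_one hqq)
        · exact step _ ((Subgroup.mem_normalizer_iff.1 htN q).1 hqP) (by rw [hconj, e', ht1])
        · exact ⟨q, hqP, e'⟩
        · exact step q hqP e'
      refine hnorm fun a ha => ?_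
      by_cases hfour : ∃ V : Subgroup ↥S, V.Normal ∧ Cfsg.IsElementaryAbelian 2 V ∧ Nat.card V = 4
      · obtain ⟨V, hVn, hVe, hV4⟩ := hfour
        obtain ⟨z0, y, n⟩ := nf_of_normal hS.isPGroup V hVn hVe hV4
        have ez0 := hz.2 z0 n.zi
        subst z0
        have hqy : y * z' = z' * y := by
          have h1 : z' * y * z'⁻¹ = y := by
            have hqz : q' * z * q'⁻¹ = z := by rw [hz.1.comm q' hq'P.1, mul_inv_cancel_right]
            rw [← hq'e, show q' * q' * y * (q' * q')⁻¹ = q' * (q' * y * q'⁻¹) * q'⁻¹ by group]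
            rcases n.act q' hq'P.1 with e' | e'
            · rw [e', e']
            · rw [e', show q' * (z * y) * q'⁻¹ = q' * z * q'⁻¹ * (q' * y * q'⁻¹) by group, hqz, e',
                ← mul_assoc, sq_one hz.1.ord, one_mul]
          exact (mul_inv_eq_iff_eq_mul.1 h1).symm
        rcases hV y n.mem hqy (sq_one n.hy) with e' | e' | e' | e'
        · exact absurd e' (ne_one n.hy)
        · exact absurd e' n.ne
        · rw [← e']; exact n.act a ha
        · have e2 : z' = z * y := by rw [e', ← mul_assoc, sq_one hz.1.ord, one_mul]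
          have e3 : a * z' * a⁻¹ = z * (a * y * a⁻¹) := by
            rw [e2, ← mul_assoc a, hz.1.comm a ha]; group
          rcases n.act a ha with e4 | e4
          · left; rw [e3, e4, ← e2]
          · right; rw [e3, e4, ← e2]
      · push Not at hfour
        obtain ⟨d, hdd, hdc, hd⟩ := square_conj hS.isPGroup (fun V a b => hfour V a b) ⟨q', hq'P.1⟩
          (Subtype.ext (by simp [hq'e, sq_one hz'.1.ord])) ⟨a, ha⟩
        have hd' : a * z' * a⁻¹ = z' * (d : G) := by
          have := congrArg Subtype.val hd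
          simpa [hq'e] using this
        by_cases hd1 : (d : G) = 1
        · left; rw [hd', hd1, mul_one]
        · right
          rw [hd', hz.2 d ⟨order_two (congrArg Subtype.val hdd) hd1, d.2,
            fun b hb => congrArg Subtype.val (hdc ⟨b, hb⟩)⟩]
          exact hzz.symm
  obtain ⟨J, hJ, hJc⟩ := class_half hS.isPGroup (z := ⟨z, hz.1.mem⟩) (a := ⟨z', hz'S⟩)
    (fun x => Subtype.ext (hz.1.comm x x.2)) (Subtype.ext (sq_one hz'.1.ord))
    ⟨⟨s, hsS⟩, fun e => hsP ⟨hsS, hPS s hsS (congrArg Subtype.val e)⟩⟩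
    (fun x e => by
      rcases hC4 x x.2 (congrArg Subtype.val e) with e' | e' | e' | e'
      · exact Or.inl (Subtype.ext e')
      · exact Or.inr (Or.inl (Subtype.ext e'))
      · exact Or.inr (Or.inr (Or.inl (Subtype.ext e')))
      · exact Or.inr (Or.inr (Or.inr (Subtype.ext e'))))
  obtain ⟨g, hgT, hgS⟩ := transfer hS (T := J.map S.subtype) (by
    rw [Subgroup.relIndex, Subgroup.subgroupOf, Subgroup.comap_map_eq_self_of_injective S.subtype_injective]
    exact hJ) h2 huS huH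
  obtain ⟨w, hw, hwe⟩ := hgT
  have ho := (orderOf_conj g u).trans h2
  refine conj_back g ?_
  rcases hJc w hw (fun e => ne_one ho (by rw [← hwe, e]; rfl))
    (Subtype.ext (by rw [Subgroup.coe_mul, show (w : G) = g * u * g⁻¹ from hwe]; exact sq_one ho))
    with e | ⟨b, e⟩
  · exact ⟨1, by rw [← hwe, e]; simp⟩
  · refine ⟨(b : G) * g₀, ?_⟩
    rw [← hwe, e]
    simp [hz'e, mul_assoc]

theorem cut_single (h : Hyp G) {S : Subgroup G} (hS : SylIn 2 S ⊤) {z : G} (hz : Single S z)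
    (hf : ∃ g, g * z * g⁻¹ ∈ S ∧ g * z * g⁻¹ ≠ z) : Cut (Cfsg.pResidual 2 G) S := by
  by_cases hbig : ∃ A : Subgroup G, A ≤ S ∧ Big A
  · obtain ⟨A, hAS, hA⟩ := hbig
    refine Cut.of (wG S) (wG_spec h hS.isPGroup (hA.good_center hAS hz.1)).1 fun u hu hH h2 => ?_
    by_cases hg : Good S u
    · exact ⟨th_le_wG hg, (wG_spec h hS.isPGroup hg).2⟩
    · exact bad_cut h hS hz hA hAS hu hH h2 hg
  · push Not at hbig
    refine Cut.of (th z) (th_odd z) fun u hu hH h2 => ?_
    obtain ⟨g, hg⟩ := conj_z h hS hz hbig hf hu hH h2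
    have hu' : Single (Fusion.cj S g) u := hg ▸ hz.cj g
    have hzu : z * u = u * z := (hz.1.comm u hu).symm
    have hzS : z ∈ Fusion.cj S g := hu'.inv_mem' h (sylIn_cj hS g) hz.1.ord hzu
    exact ⟨th_eq_of_single h hu' (sylIn_cj hS g) hzS hz.1.ord,
      fun w hw _ => th_eq_of_single h hz hS hu h2 hw⟩

end Cfsg.Agent.ZnGroup
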