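import Cfsg.Agent.Lib.Lead.ZnGroup.Basic
import Cfsg.Agent.Lib.Fusion.NormalFour
import Cfsg.Agent.S1279
import Cfsg.Agent.S0217

/-!
# Linking the signalizer functors of the elementary abelian subgroups of order eight
-/

set_option autoImplicit false
set_option linter.unusedSectionVars false
set_option linter.style.haveILetI false
open Cfsg.Agent.Fusion

namespace Cfsg.Agent.ZnGroup

universe u

variable {G : Type u} [Group G] [Finite G]

/-- An elementary abelian subgroup of order at least eight. -/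
structure Big (A : Subgroup G) : Prop where
  elem : Cfsg.IsElementaryAbelian 2 A
  eight : 8 ≤ Nat.card A

theorem elem_order {A : Subgroup G} (hA : Cfsg.IsElementaryAbelian 2 A) {a : G} (ha : a ∈ A) (h1 : a ≠ 1) :
    orderOf a = 2 := orderOf_eq_prime (hA.2 a ha) h1

theorem elem_four {A : Subgroup G} (hA : Cfsg.IsElementaryAbelian 2 A) (h4 : 3 ≤ Nat.card A) :
    ∃ a ∈ A, ∃ b ∈ A, Four a b := by
  obtain ⟨a, ha, h1⟩ : ∃ a ∈ A, a ≠ 1 := by
    by_contra h
    push Not at h
    have : A = ⊥ := (Subgroup.eq_bot_iff_forall A).2 h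
    rw [this, Subgroup.card_bot] at h4
    omega
  obtain ⟨b, hb, hb1⟩ : ∃ b ∈ A, b ∉ Subgroup.zpowers a := by
    by_contra h
    push Not at h
    have := Subgroup.card_le_of_le (show A ≤ Subgroup.zpowers a from h)
    rw [Nat.card_zpowers, elem_order hA ha h1] at this
    omega
  exact ⟨a, ha, b, hb, elem_order hA ha h1, elem_order hA hb fun e => hb1 (e ▸ one_mem _),
    Local.elemAb_commute hA ha hb, fun e => hb1 (e ▸ Subgroup.mem_zpowers a)⟩

/-- The subgroup of a four group. -/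
def Four.grp {a b : G} (f : Four a b) : Subgroup G where
  carrier := {1, a, b, a * b}
  one_mem' := Or.inl rfl
  mul_mem' := by
    have h1 := sq_one f.ha
    have h2 := sq_one f.hb
    have e1 : b * a = a * b := f.comm.symm
    have e2 : a * (a * b) = b := by rw [← mul_assoc, h1, one_mul]
    have e3 : b * (a * b) = a := by rw [← mul_assoc, e1, mul_assoc, h2, mul_one]
    have e4 : a * b * a = b := by rw [mul_assoc, e1, e2]
    have e5 : a * b * b = a := by rw [mul_assoc, h2, mul_one]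
    have e6 : a * b * (a * b) = 1 := sq_one f.hab
    rintro x w (rfl | rfl | rfl | rfl) (rfl | rfl | rfl | rfl) <;>
      simp [Set.mem_insert_iff, h1, h2, e1, e2, e3, e4, e5, e6]
  inv_mem' := by
    rintro x (rfl | rfl | rfl | rfl)
    · exact Or.inl inv_one
    · exact Or.inr (Or.inl (inv_eq f.ha))
    · exact Or.inr (Or.inr (Or.inl (inv_eq f.hb)))
    · exact Or.inr (Or.inr (Or.inr (inv_eq f.hab)))

theorem Four.mem_left {a b : G} (f : Four a b) : a ∈ f.grp := Or.inr (Or.inl rfl)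

theorem Four.mem_right {a b : G} (f : Four a b) : b ∈ f.grp := Or.inr (Or.inr (Or.inl rfl))

theorem Four.grp_le {a b : G} (f : Four a b) {S : Subgroup G} (ha : a ∈ S) (hb : b ∈ S) : f.grp ≤ S := by
  rintro x (rfl | rfl | rfl | rfl)
  · exact one_mem S
  · exact ha
  · exact hb
  · exact mul_mem ha hb

theorem Four.le_four {a b : G} (f : Four a b) : Nat.card f.grp ≤ 4 := by
  refine (Nat.card_coe_set_eq ({1, a, b, a * b} : Set G)).trans_le ?_
  refine (Set.ncard_insert_le _ _).trans ?_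
  have := Set.ncard_insert_le a ({b, a * b} : Set G)
  have := Set.ncard_insert_le b ({a * b} : Set G)
  have := Set.ncard_singleton (a * b)
  omega

theorem Four.elem {a b : G} (f : Four a b) : Cfsg.IsElementaryAbelian 2 f.grp := by
  refine Local.elemAb_mono (A := Subgroup.zpowers a ⊔ Subgroup.zpowers b) ?_
    (f.grp_le (Subgroup.mem_sup_left (Subgroup.mem_zpowers a))
      (Subgroup.mem_sup_right (Subgroup.mem_zpowers b)))
  exact Local.elemAb_sup (Local.elemAb_zpowers (by rw [pow_two]; exact sq_one f.ha))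
    (Local.elemAb_zpowers (by rw [pow_two]; exact sq_one f.hb)) fun x hx y hy => by
      obtain ⟨i, rfl⟩ := Subgroup.mem_zpowers_iff.1 hx
      obtain ⟨j, rfl⟩ := Subgroup.mem_zpowers_iff.1 hy
      exact ((show Commute a b from f.comm).zpow_zpow i j).eq

theorem Four.four_le {a b : G} (f : Four a b) : 4 ≤ Nat.card f.grp := by
  let g : Fin 4 → f.grp := ![1, ⟨a, f.mem_left⟩, ⟨b, f.mem_right⟩, ⟨a * b, mul_mem f.mem_left f.mem_right⟩]
  have h1 := ne_one f.ha
  have h2 := ne_one f.hb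
  have h3 := ne_one f.hab
  have h4 := f.ne
  have hg : Function.Injective g := by
    intro i k hik
    have h' := congrArg Subtype.val hik
    fin_cases i <;> fin_cases k <;> simp [g] at h' ⊢ <;>
      first
        | exact h1 h' | exact h1 h'.symm | exact h2 h' | exact h2 h'.symm | exact h3 h' | exact h3 h'.symm
        | exact h4 h' | exact h4 h'.symm
  have := Nat.card_le_card_of_injective g hg
  rwa [Nat.card_fin] at this

/-- A commuting involution outside a four group gives order eight. -/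
theorem Four.extend {a b : G} (f : Four a b) {v : G} (hv : v * v = 1) (hva : v * a = a * v)
    (hvb : v * b = b * v) (hn : v ∉ f.grp) : Big (f.grp ⊔ Subgroup.zpowers v) := by
  have he : Cfsg.IsElementaryAbelian 2 (f.grp ⊔ Subgroup.zpowers v) :=
    Local.elemAb_sup f.elem (Local.elemAb_zpowers (by rw [pow_two]; exact hv)) (by
      have hle : f.grp ≤ Subgroup.centralizer ({v} : Set G) :=
        f.grp_le (Subgroup.mem_centralizer_singleton_iff.2 hva.symm)
          (Subgroup.mem_centralizer_singleton_iff.2 hvb.symm)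
      intro x hx y hy
      obtain ⟨j, rfl⟩ := Subgroup.mem_zpowers_iff.1 hy
      exact ((show Commute x v from Subgroup.mem_centralizer_singleton_iff.1 (hle hx)).zpow_right j).eq)
  refine ⟨he, ?_⟩
  have hlt : f.grp < f.grp ⊔ Subgroup.zpowers v :=
    lt_of_le_of_ne le_sup_left fun e => hn (e.symm.le (Subgroup.mem_sup_right (Subgroup.mem_zpowers v)))
  have hd := Subgroup.card_dvd_of_le hlt.le
  have hne : Nat.card f.grp ≠ Nat.card ↥(f.grp ⊔ Subgroup.zpowers v) := fun e =>
    hlt.ne (Subgroup.eq_of_le_of_card_ge hlt.le e.ge)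
  have h4 := f.four_le
  obtain ⟨c, hc⟩ := hd
  rcases c with _ | _ | c
  · have := Nat.card_pos (α := ↥(f.grp ⊔ Subgroup.zpowers v))
    omega
  · omega
  · rw [hc]; nlinarith

/-- The join of the cores of the involutions of `A`. -/
def wA (A : Subgroup G) : Subgroup G := ⨆ a : {a : G // a ∈ A ∧ a ≠ 1}, th a.1

theorem th_le_wA {A : Subgroup G} {a : G} (ha : a ∈ A) (h1 : a ≠ 1) : th a ≤ wA A :=
  le_iSup (fun a : {a : G // a ∈ A ∧ a ≠ 1} => th a.1) ⟨a, ha, h1⟩

theorem complete (h : Hyp G) {A : Subgroup G} (hA : Big A) :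
    Odd (Nat.card ↥(wA A)) ∧
      ∀ a ∈ A, a ≠ 1 → ∀ w ∈ wA A, w * a = a * w → w ∈ th a := by
  haveI : Fact (Nat.Prime 2) := ⟨Nat.prime_two⟩
  have hs := Cfsg.Agent.S1279.result 2 A hA.elem (by have := hA.eight; norm_num; omega)
    fun a ha h1 => h.solv a (elem_order hA.elem ha h1)
  obtain ⟨⟨h1, h2, h3, h4⟩, h5⟩ := hs
  obtain ⟨r1, r2⟩ := Cfsg.Agent.S0217.result A (fun a ha b hb => Local.elemAb_commute hA.elem ha hb)
    hA.elem.2 (by have := hA.eight; norm_num; omega) (fun a => th a) h1 h2 h3 h5 h4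
  refine ⟨?_, fun a ha ha1 w hw hwa => ?_⟩
  · rw [Nat.odd_iff]
    have : ¬ 2 ∣ Nat.card ↥(wA A) := r1
    omega
  · rw [← show _ = th a from r2 a ha ha1]
    exact ⟨hw, Subgroup.mem_centralizer_singleton_iff.2 hwa⟩

theorem wA_norm {A : Subgroup G} (hA : Cfsg.IsElementaryAbelian 2 A) {b : G} (hb : b ∈ A) :
    b ∈ Subgroup.normalizer (wA A : Set G) := by
  refine mem_normalizer_of_cj_le ?_
  rw [wA, Fusion.cj, Subgroup.map_iSup]
  refine iSup_le fun a => le_trans ?_ (le_iSup (fun a : {a : G // a ∈ A ∧ a ≠ 1} => th a.1) a)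
  exact (cj_eq_self (th_norm (Local.elemAb_commute hA hb a.2.1))).le

theorem wA_eq_sig3 (h : Hyp G) {A : Subgroup G} (hA : Big A) {a b : G} (f : Four a b) (ha : a ∈ A)
    (hb : b ∈ A) : wA A = sig3 a b := by
  obtain ⟨h1, h2⟩ := complete h hA
  refine le_antisymm (le_sig f h1 (wA_norm hA.elem ha) (wA_norm hA.elem hb)
    (fun y hy e => Subgroup.mem_sup_left (Subgroup.mem_sup_left (h2 a ha (ne_one f.ha) y hy e)))
    (fun y hy e => Subgroup.mem_sup_left (Subgroup.mem_sup_right (h2 b hb (ne_one f.hb) y hy e)))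
    (fun y hy e => Subgroup.mem_sup_right (h2 _ (mul_mem ha hb) (ne_one f.hab) y hy e))) ?_
  exact Four.sig3_le (th_le_wA ha (ne_one f.ha)) (th_le_wA hb (ne_one f.hb))
    (th_le_wA (mul_mem ha hb) (ne_one f.hab))

/-- `z`, `y` span a normal four group of `S`. -/
structure NF (S : Subgroup G) (z y : G) : Prop where
  zi : Zi S z
  hy : orderOf y = 2
  mem : y ∈ S
  ne : y ≠ z
  act : ∀ s ∈ S, s * y * s⁻¹ = y ∨ s * y * s⁻¹ = z * y

theorem NF.four {S : Subgroup G} {z y : G} (n : NF S z y) : Four z y :=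
  ⟨n.zi.ord, n.hy, (n.zi.comm y n.mem).symm, n.ne.symm⟩

theorem half {Y : Subgroup G} {y y' : G} (h : ∀ s ∈ Y, s * y * s⁻¹ = y ∨ s * y * s⁻¹ = y') :
    (Subgroup.centralizer ({y} : Set G)).relIndex Y ≤ 2 := by
  by_cases hall : ∀ s ∈ Y, s ∈ Subgroup.centralizer ({y} : Set G)
  · rw [Subgroup.relIndex_eq_one.2 hall]
    omega
  push Not at hall
  obtain ⟨a, ha, hna⟩ := hall
  have hiff : ∀ s : G, s ∈ Subgroup.centralizer ({y} : Set G) ↔ s * y * s⁻¹ = y := fun s => by
    rw [Subgroup.mem_centralizer_singleton_iff, mul_inv_eq_iff_eq_mul]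
  have hay : a * y * a⁻¹ = y' := (h a ha).resolve_left fun e => hna ((hiff a).2 e)
  refine le_of_eq ?_
  rw [Subgroup.relIndex, Subgroup.index_eq_two_iff]
  refine ⟨⟨a, ha⟩, fun b => ?_⟩
  rcases b with ⟨b, hb⟩
  simp only [Subgroup.mem_subgroupOf, Subgroup.coe_mul]
  by_cases hbC : b ∈ Subgroup.centralizer ({y} : Set G)
  · refine Or.inr ⟨hbC, fun hba => hna ?_⟩
    simpa using mul_mem (inv_mem hbC) hba
  · refine Or.inl ⟨(hiff _).2 ?_, hbC⟩
    have h2 : b⁻¹ * y * b = y' := by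
      rcases h b⁻¹ (inv_mem hb) with e | e <;> rw [inv_inv] at e
      · exact absurd ((hiff b).2 (by conv_lhs => rw [← e]; simp only [← mul_assoc, mul_inv_cancel,
          one_mul, mul_inv_cancel_right])) hbC
      · exact e
    calc b * a * y * (b * a)⁻¹ = b * (a * y * a⁻¹) * b⁻¹ := by group
      _ = y := by rw [hay, ← h2]; group

theorem NF.big (h : Hyp G) {S : Subgroup G} {z y : G} (n : NF S z y) {A : Subgroup G} (hA : Big A)
    (hAS : A ≤ S) : wA A = sig3 z y ∧ ∃ B : Subgroup G, B ≤ S ∧ Big B ∧ z ∈ B ∧ y ∈ B := by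
  set C := Subgroup.centralizer ({y} : Set G)
  have hidx : C.relIndex A ≤ 2 := half fun s hs => n.act s (hAS hs)
  have hcard : Nat.card ↥(A ⊓ C) * C.relIndex A = Nat.card A := by
    have := Subgroup.relIndex_mul_relIndex ⊥ (A ⊓ C) A bot_le inf_le_left
    rw [Subgroup.relIndex_bot_left, Subgroup.relIndex_bot_left, Subgroup.inf_relIndex_left] at this
    exact this
  have h3 : 3 ≤ Nat.card ↥(A ⊓ C) := by nlinarith [hA.eight]
  obtain ⟨a, ha, b, hb, f⟩ := elem_four (Local.elemAb_mono hA.elem inf_le_left) h3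
  have hza : ∀ x ∈ A ⊓ C, x * z = z * x ∧ x * y = y * x := fun x hx =>
    ⟨n.zi.comm x (hAS hx.1), Subgroup.mem_centralizer_singleton_iff.1 hx.2⟩
  by_cases hall : a ∈ n.four.grp ∧ b ∈ n.four.grp
  · -- the two four groups coincide
    have hle : f.grp ≤ n.four.grp := f.grp_le hall.1 hall.2
    have hyz : z ∈ f.grp ∧ y ∈ f.grp := by
      have hcd : Nat.card n.four.grp ≤ Nat.card f.grp := n.four.le_four.trans f.four_le
      have he := Subgroup.eq_of_le_of_card_ge hle hcd
      exact ⟨he.symm ▸ n.four.mem_left, he.symm ▸ n.four.mem_right⟩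
    have hin : f.grp ≤ A := f.grp_le ha.1 hb.1
    exact ⟨wA_eq_sig3 h hA n.four (hin hyz.1) (hin hyz.2), A, hAS, hA, hin hyz.1, hin hyz.2⟩
  · obtain ⟨v, hv, hvn⟩ : ∃ v ∈ A ⊓ C, v ∉ n.four.grp := by
      by_cases h1 : a ∈ n.four.grp
      · exact ⟨b, hb, fun h2 => hall ⟨h1, h2⟩⟩
      · exact ⟨a, ha, h1⟩
    have hvv : v * v = 1 := by rw [← pow_two]; exact hA.elem.2 v hv.1
    have hB := n.four.extend hvv (hza v hv).1 (hza v hv).2 hvn
    have hV : Cfsg.IsElementaryAbelian 2 (n.four.grp ⊔ (A ⊓ C)) :=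
      Local.elemAb_sup n.four.elem (Local.elemAb_mono hA.elem inf_le_left) (by
        intro x hx w hw
        exact (Subgroup.mem_centralizer_singleton_iff.1
          (n.four.grp_le (S := Subgroup.centralizer ({w} : Set G))
            (Subgroup.mem_centralizer_singleton_iff.2 (hza w hw).1.symm)
            (Subgroup.mem_centralizer_singleton_iff.2 (hza w hw).2.symm) hx)))
    have hB2 : Big (n.four.grp ⊔ (A ⊓ C)) := ⟨hV, hB.eight.trans
      (Subgroup.card_le_of_le (sup_le_sup_left (Subgroup.zpowers_le.2 hv) _))⟩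
    refine ⟨?_, _, ?_, hB2, Subgroup.mem_sup_left n.four.mem_left, Subgroup.mem_sup_left n.four.mem_right⟩
    · rw [wA_eq_sig3 h hA f ha.1 hb.1,
        ← wA_eq_sig3 h hB2 n.four (Subgroup.mem_sup_left n.four.mem_left) (Subgroup.mem_sup_left n.four.mem_right),
        wA_eq_sig3 h hB2 f (Subgroup.mem_sup_right ha) (Subgroup.mem_sup_right hb)]
    · exact sup_le (n.four.grp_le n.zi.mem n.mem) (inf_le_left.trans hAS)

theorem nf_of_normal {S : Subgroup G} (hS : IsPGroup 2 S) (V : Subgroup ↥S) (hVn : V.Normal)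
    (hV : Cfsg.IsElementaryAbelian 2 V) (hV4 : Nat.card V = 4) : ∃ z y, NF S z y := by
  haveI : Fact (Nat.Prime 2) := ⟨Nat.prime_two⟩
  haveI : Nontrivial V := Finite.one_lt_card_iff_nontrivial.1 (by omega)
  obtain ⟨z, hzV, hzc, hz1⟩ := Perm.exists_ne_one_center hS V
  obtain ⟨y, hy, hyz⟩ : ∃ y ∈ V, y ∉ Subgroup.zpowers z := by
    by_contra hh
    push Not at hh
    have := Subgroup.card_le_of_le (show V ≤ Subgroup.zpowers z from hh)
    rw [Nat.card_zpowers, orderOf_eq_prime (hV.2 z hzV) hz1] at this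
    omega
  have hy1 : y ≠ 1 := fun e => hyz (e ▸ one_mem _)
  have hyne : y ≠ z := fun e => hyz (e ▸ Subgroup.mem_zpowers z)
  refine ⟨z, y, ⟨⟨?_, z.2, fun s hs => congrArg Subtype.val (Subgroup.mem_center_iff.1 hzc ⟨s, hs⟩)⟩, ?_, y.2,
    fun e => hyne (Subtype.ext e), fun s hs => ?_⟩⟩
  · rw [Subgroup.orderOf_coe, orderOf_eq_prime (hV.2 z hzV) hz1]
  · rw [Subgroup.orderOf_coe, orderOf_eq_prime (hV.2 y hy) hy1]
  · classical
    have hmem : ⟨s, hs⟩ * y * ⟨s, hs⟩⁻¹ ∈ V := hVn.conj_mem y hy _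
    haveI : Fintype V := Fintype.ofFinite V
    have hzy : z * y ∈ V := mul_mem hzV hy
    have hset : ({⟨1, one_mem V⟩, ⟨z, hzV⟩, ⟨y, hy⟩, ⟨z * y, hzy⟩} : Finset V) = Finset.univ := by
      refine Finset.eq_univ_of_card _ ?_
      rw [← Nat.card_eq_fintype_card, hV4]
      have e1 : z * y ≠ 1 := fun e => hyne (by
        rw [← inv_eq_of_mul_eq_one_right e]
        exact inv_eq_of_mul_eq_one_right (by rw [← pow_two]; exact hV.2 z hzV))
      rw [Finset.card_insert_of_notMem, Finset.card_insert_of_notMem, Finset.card_insert_of_notMem,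
        Finset.card_singleton] <;>
        simp [Ne.symm hz1, Ne.symm hy1, Ne.symm e1, Ne.symm hyne, hy1, hz1]
    have h2 := Finset.mem_univ (⟨_, hmem⟩ : V)
    rw [← hset] at h2
    simp only [Finset.mem_insert, Finset.mem_singleton, Subtype.mk.injEq] at h2
    rcases h2 with e | e | e | e
    · exact absurd (conj_eq_one_iff.1 e) hy1
    · refine absurd ?_ hyne
      have := congrArg (fun w => ⟨s, hs⟩⁻¹ * w * (⟨s, hs⟩ : S)) e
      simp only [mul_assoc, inv_mul_cancel, mul_one, inv_mul_cancel_left] at this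
      rw [this, ← mul_assoc, Subgroup.mem_center_iff.1 hzc, mul_assoc, inv_mul_cancel, mul_one]
    · exact Or.inl (congrArg Subtype.val e)
    · exact Or.inr (congrArg Subtype.val e)

theorem exists_nf {S A : Subgroup G} (hS : IsPGroup 2 S) (hA : Big A) (hAS : A ≤ S) :
    ∃ z y, NF S z y := by
  obtain ⟨V, hVn, hV, hV4⟩ := exists_normal_four hS (A.subgroupOf S)
    ⟨⟨⟨fun a b => Subtype.ext (Subtype.ext (Local.elemAb_commute hA.elem a.2 b.2))⟩⟩,
      fun a ha => Subtype.ext (hA.elem.2 a ha)⟩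
    (by rw [Nat.card_congr (Subgroup.subgroupOfEquivOfLe hAS).toEquiv]; exact hA.eight)
  exact nf_of_normal hS V hVn hV hV4

/-- `u` lies in an elementary abelian subgroup of order at least eight of `S`. -/
def Good (S : Subgroup G) (u : G) : Prop := u ≠ 1 ∧ ∃ A : Subgroup G, A ≤ S ∧ Big A ∧ u ∈ A

theorem Good.ord {S : Subgroup G} {u : G} (hu : Good S u) : orderOf u = 2 := by
  obtain ⟨h1, A, -, hA, huA⟩ := hu
  exact elem_order hA.elem huA h1

/-- The join of the cores of the good involutions. -/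
def wG (S : Subgroup G) : Subgroup G := ⨆ u : {u : G // Good S u}, th u.1

theorem th_le_wG {S : Subgroup G} {u : G} (hu : Good S u) : th u ≤ wG S :=
  le_iSup (fun u : {u : G // Good S u} => th u.1) ⟨u, hu⟩

theorem wG_eq (h : Hyp G) {S : Subgroup G} (hS : IsPGroup 2 S) {A : Subgroup G} (hA : Big A)
    (hAS : A ≤ S) : wG S = wA A := by
  obtain ⟨z, y, n⟩ := exists_nf hS hA hAS
  refine le_antisymm (iSup_le fun u => ?_) (iSup_le fun a => th_le_wG ⟨a.2.2, A, hAS, hA, a.2.1⟩)
  obtain ⟨h1, B, hBS, hB, huB⟩ := u.2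
  rw [(n.big h hA hAS).1, ← (n.big h hB hBS).1]
  exact th_le_wA huB h1

theorem wG_spec (h : Hyp G) {S : Subgroup G} (hS : IsPGroup 2 S) {u : G} (hu : Good S u) :
    Odd (Nat.card ↥(wG S)) ∧ ∀ w ∈ wG S, w * u = u * w → w ∈ th u := by
  obtain ⟨h1, A, hAS, hA, huA⟩ := hu
  rw [wG_eq h hS hA hAS]
  exact ⟨(complete h hA).1, (complete h hA).2 u huA h1⟩

theorem Good.cj {S : Subgroup G} {u : G} (hu : Good S u) (g : G) :
    Good (Fusion.cj S g) (g * u * g⁻¹) := by
  obtain ⟨h1, A, hAS, hA, huA⟩ := hu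
  refine ⟨fun e => h1 (conj_eq_one_iff.1 e), Fusion.cj A g, cj_mono hAS g, ⟨⟨⟨⟨?_⟩⟩, ?_⟩, ?_⟩, conj_mem_cj huA⟩
  · rintro ⟨_, a, ha, rfl⟩ ⟨_, b, hb, rfl⟩
    exact Subtype.ext (by simp only [Subgroup.coe_mul]; rw [← map_mul, ← map_mul, Local.elemAb_commute hA.elem ha hb])
  · rintro _ ⟨a, ha, rfl⟩
    rw [← map_pow, hA.elem.2 a ha, map_one]
  · rw [card_cj]; exact hA.eight

theorem wG_cj_le (S : Subgroup G) (g : G) : Fusion.cj (wG S) g ≤ wG (Fusion.cj S g) := by
  rw [wG, Fusion.cj, Subgroup.map_iSup]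
  refine iSup_le fun u => ?_
  rintro _ ⟨y, hy, rfl⟩
  exact th_le_wG (u.2.cj g) (mem_th_cj hy)

theorem wG_cj (S : Subgroup G) (g : G) : Fusion.cj (wG S) g = wG (Fusion.cj S g) := by
  refine le_antisymm (wG_cj_le S g) ?_
  have h1 := wG_cj_le (Fusion.cj S g) g⁻¹
  rw [cj_cj_inv] at h1
  have h2 := cj_mono h1 g
  rwa [cj_inv_cj] at h2

theorem wG_norm {S : Subgroup G} {g : G} (hg : g ∈ Subgroup.normalizer (S : Set G)) :
    g ∈ Subgroup.normalizer (wG S : Set G) :=
  mem_normalizer_of_cj_le (by rw [wG_cj, cj_eq_self hg])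

end Cfsg.Agent.ZnGroup
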