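import Cfsg.Agent.Lib.Lead.ZnGroup.Main
import Cfsg.Agent.S0518
import Cfsg.Agent.S3224
import Cfsg.Prelude.Def_CaseTheorems

/-!
# Solvable 2-locals: a strongly embedded subgroup, or a dihedral or semidihedral Sylow 2-subgroup
-/

set_option autoImplicit false
set_option linter.unusedSectionVars false
set_option linter.style.haveILetI false
open Cfsg.Agent.Fusion

namespace Cfsg.Agent.ZnGroup

universe u

section Abstract

/-- The fixed-point-free involutions of four points. -/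
def KI (x : Equiv.Perm (Fin 4)) : Prop := x * x = 1 ∧ ∀ i, x i ≠ i

instance (x : Equiv.Perm (Fin 4)) : Decidable (KI x) := inferInstanceAs (Decidable (_ ∧ _))

theorem ki_of : ∀ x : Equiv.Perm (Fin 4), x ≠ 1 → x ^ 8 = 1 → (∀ g, (x * (g * x * g⁻¹)) ^ 8 = 1) → KI x := by
  unfold KI; decide +kernel

theorem ki_conj : ∀ x y : Equiv.Perm (Fin 4), KI x → KI y → ∃ g, g * x * g⁻¹ = y := by
  unfold KI; decide +kernel

theorem ki_cent : ∀ y : Equiv.Perm (Fin 4), (∀ x, KI x → y * x = x * y) → y = 1 ∨ KI y := by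
  unfold KI; decide +kernel

theorem ki_card : (Finset.univ.filter fun x : Equiv.Perm (Fin 4) => x = 1 ∨ KI x).card = 4 := by
  unfold KI; decide +kernel

theorem perm_four_normal (N : Subgroup (Equiv.Perm (Fin 4))) [N.Normal] (hN : IsPGroup 2 N) (hne : N ≠ ⊥) :
    ∀ x, x ∈ N ↔ x = 1 ∨ KI x := by
  have hp : ∀ x ∈ N, x ^ 8 = 1 := fun x hx => by
    obtain ⟨k, hk⟩ := IsPGroup.iff_orderOf.1 hN ⟨x, hx⟩
    rw [← Subgroup.orderOf_coe] at hk
    have hd : orderOf x ∣ 24 := by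
      have := orderOf_dvd_natCard x
      rwa [Nat.card_eq_fintype_card, Fintype.card_perm, Fintype.card_fin] at this
    refine orderOf_dvd_iff_pow_eq_one.1 (?_ : orderOf x ∣ 8)
    have hk' : orderOf x = 2 ^ k := hk
    rw [hk'] at hd ⊢
    exact (Nat.Coprime.pow_left k (by decide : Nat.Coprime 2 3)).dvd_of_dvd_mul_right
      (by norm_num; exact hd)
  have h1 : ∀ x ∈ N, x ≠ 1 → KI x := fun x hx hx1 =>
    ki_of x hx1 (hp x hx) fun g => hp _ (mul_mem hx ((inferInstance : N.Normal).conj_mem x hx g))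
  obtain ⟨x₀, hx₀, hx₀1⟩ : ∃ x ∈ N, x ≠ 1 := by
    by_contra h
    push Not at h
    exact hne ((Subgroup.eq_bot_iff_forall N).2 h)
  refine fun x => ⟨fun hx => or_iff_not_imp_left.2 (h1 x hx), ?_⟩
  rintro (rfl | hx)
  · exact one_mem N
  · obtain ⟨g, rfl⟩ := ki_conj x₀ x (h1 x₀ hx₀ hx₀1) hx
    exact (inferInstance : N.Normal).conj_mem x₀ hx₀ g

theorem qd_congr {A B : Type*} [Group A] [Group B] (e : A ≃* B) (h : Cfsg.IsQuasiDihedral A) :
    Cfsg.IsQuasiDihedral B := by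
  obtain ⟨n, hn, hc, x, y, hx, hy, hxy⟩ := h
  exact ⟨n, hn, (Nat.card_congr e.toEquiv).symm.trans hc, e x, e y, (e.orderOf_eq x).trans hx,
    (e.orderOf_eq y).trans hy, by rw [← map_inv, ← map_mul, ← map_mul, hxy, map_pow]⟩

variable {K : Type u} [Group K] [Finite K]

/-- A 2-local isomorphic to `S₄` makes the Sylow 2-subgroups dihedral or semidihedral. -/
theorem dihedral_of_local (M : Subgroup K) (hM : Cfsg.IsTwoLocal M) (e : M ≃* Equiv.Perm (Fin 4))
    (P : Sylow 2 K) : (∃ n, 2 ≤ n ∧ Nonempty (↥(P : Subgroup K) ≃* DihedralGroup n)) ∨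
      Cfsg.IsQuasiDihedral ↥(P : Subgroup K) := by
  classical
  haveI : Fact (Nat.Prime 2) := ⟨Nat.prime_two⟩
  obtain ⟨T, hT, hTne, hMT⟩ := hM
  have hTM : T ≤ M := hMT ▸ Subgroup.le_normalizer
  have hTn : (T.subgroupOf M).Normal :=
    (Subgroup.normal_subgroupOf_iff_le_normalizer hTM).2 hMT.le
  set N := (T.subgroupOf M).map e.toMonoidHom
  haveI : N.Normal := hTn.map _ e.surjective
  have hN := perm_four_normal N ((hT.comap_subtype (K := M)).map _) (by
    rw [Ne, Subgroup.map_eq_bot_iff_of_injective _ e.injective, Subgroup.subgroupOf_eq_bot,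
      disjoint_iff, inf_eq_left.2 hTM]
    exact hTne)
  have hTe : ∀ (w : M), (w : K) ∈ T ↔ e w = 1 ∨ KI (e w) := fun w => by
    rw [← hN]
    exact ⟨fun h => ⟨w, h, rfl⟩, fun ⟨v, hv, hvw⟩ => e.injective hvw ▸ hv⟩
  have hT4 : Nat.card T = 4 := by
    rw [← Nat.card_congr (Subgroup.subgroupOfEquivOfLe hTM).toEquiv]
    refine (Nat.card_congr ((Equiv.subtypeEquiv (p := fun w : M => (w : K) ∈ T)
      (q := fun x : Equiv.Perm (Fin 4) => x = 1 ∨ KI x) e.toEquiv hTe))).trans ?_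
    rw [Nat.card_eq_fintype_card, Fintype.card_subtype, ki_card]
  have hcent : ∀ x : K, (∀ t ∈ T, x * t = t * x) → x ∈ T := by
    intro x hx
    have hxM : x ∈ M := hMT ▸ Subgroup.centralizer_le_normalizer _
      (Subgroup.mem_centralizer_iff.2 fun t ht => (hx t ht).symm)
    refine (hTe ⟨x, hxM⟩).2 (ki_cent _ fun y hy => ?_)
    obtain ⟨w, rfl⟩ := e.surjective y
    rw [← map_mul, ← map_mul]
    exact congrArg e (Subtype.ext (hx w ((hTe w).2 (Or.inr hy))))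
  have hinv : ∀ t ∈ T, t * t = 1 := fun t ht => by
    have h1 : e (⟨t, hTM ht⟩ * ⟨t, hTM ht⟩) = 1 := by
      rcases (hTe ⟨t, hTM ht⟩).1 ht with h | h
      · rw [map_mul, h, mul_one]
      · rw [map_mul, h.1]
    exact congrArg Subtype.val (e.map_eq_one_iff.1 h1)
  obtain ⟨Q, hQ⟩ := hT.exists_le_sylow
  obtain ⟨z, hz⟩ := exists_zi Q.isPGroup' fun h => hTne (le_bot_iff.1 (h ▸ hQ))
  have hzT : z ∈ T := hcent z fun t ht => (hz.comm t (hQ ht)).symm
  obtain ⟨a, ha, haz⟩ : ∃ a ∈ T, a ∉ Subgroup.zpowers z := by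
    by_contra h
    push Not at h
    have := Subgroup.card_le_of_le (show T ≤ Subgroup.zpowers z from h)
    rw [Nat.card_zpowers, hz.ord, hT4] at this
    omega
  have ha2 : orderOf a = 2 := order_two (hinv a ha) fun h => haz (h ▸ one_mem _)
  have f : Four z a := ⟨hz.ord, ha2, (hz.comm a (hQ ha)).symm, fun h => haz (h ▸ Subgroup.mem_zpowers z)⟩
  have hTf : T = f.grp :=
    (Subgroup.eq_of_le_of_card_ge (f.grp_le hzT ha) (hT4.le.trans f.four_le)).symm
  have hC : Nat.card ↥(Subgroup.centralizer ({⟨a, hQ ha⟩} : Set ↥(Q : Subgroup K))) = 4 := by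
    rw [← hT4, ← Nat.card_congr (Subgroup.subgroupOfEquivOfLe hQ).toEquiv]
    refine Nat.card_congr (Equiv.subtypeEquiv (Equiv.refl _) fun w => ?_)
    rw [Subgroup.mem_centralizer_singleton_iff, Subgroup.mem_subgroupOf, Equiv.refl_apply]
    refine ⟨fun h => ?_, fun h => Subtype.ext (Local.elemAb_commute f.elem (hTf ▸ h) (hTf ▸ ha))⟩
    refine hcent _ fun t ht => ?_
    have hwa : (w : K) * a = a * w := congrArg Subtype.val h
    have hle : f.grp ≤ Subgroup.centralizer ({(w : K)} : Set K) :=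
      f.grp_le (Subgroup.mem_centralizer_singleton_iff.2 (hz.comm w w.2).symm)
        (Subgroup.mem_centralizer_singleton_iff.2 hwa.symm)
    exact (Subgroup.mem_centralizer_singleton_iff.1 (hle (hTf ▸ ht))).symm
  have eQP : ↥(Q : Subgroup K) ≃* ↥(P : Subgroup K) := Sylow.equiv Q P
  have hQ4 : 4 ≤ Nat.card ↥(Q : Subgroup K) := hC ▸ Subgroup.card_le_card_group _
  rcases Cfsg.Agent.S3224.result Q.isPGroup' ⟨a, hQ ha⟩ ((Subgroup.orderOf_mk a (hQ ha)).trans ha2) hC with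
    ⟨n, ⟨en⟩⟩ | h | h
  · refine Or.inl ⟨n, ?_, ⟨eQP.symm.trans en⟩⟩
    have := Nat.card_congr en.toEquiv
    rcases n with _ | _ | n
    · have := Nat.card_pos (α := ↥(Q : Subgroup K))
      simp_all [DihedralGroup.nat_card]
    · rw [DihedralGroup.nat_card] at this; omega
    · omega
  · exact Or.inr (qd_congr eQP h)
  · refine Or.inl ⟨2, le_rfl, ?_⟩
    have hQT : (Q : Subgroup K) = T := (Subgroup.eq_of_le_of_card_ge hQ (h.trans_le hT4.ge)).symm
    haveI : Nontrivial ↥(Q : Subgroup K) := Finite.one_lt_card_iff_nontrivial.1 (by omega)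
    haveI : IsKleinFour ↥(Q : Subgroup K) := ⟨h, Monoid.exponent_eq_prime_iff Nat.prime_two |>.2 fun w hw =>
      order_two (Subtype.ext (hinv w (hQT ▸ w.2))) hw⟩
    haveI : IsKleinFour ↥(P : Subgroup K) := ⟨(Nat.card_congr eQP.toEquiv).symm.trans h,
      (Monoid.exponent_eq_of_mulEquiv eQP).symm.trans IsKleinFour.exponent_two⟩
    exact IsKleinFour.nonempty_mulEquiv

end Abstract

variable {G : Type u} [Group G] [Finite G]

/-- Characteristic two type for `O²(G)Z` gives the last two alternatives. -/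
theorem char_two_case (h : Hyp G) (heven : Even (Nat.card G))
    (hN : ∀ L : Subgroup G, Cfsg.IsTwoLocal L → Group.IsSolvable L)
    (hO' : Cfsg.pPrimeCore 2 G = ⊥) (hO : Cfsg.pCore 2 G = ⊥) {S : Subgroup G} (hS : SylIn 2 S ⊤)
    (hX : Cfsg.IsCharacteristicTwoType ↥(Cfsg.pResidual 2 G ⊔ zOm S)) :
    (∃ M : Subgroup ↥(Cfsg.pResidual 2 G), Cfsg.IsStronglyEmbedded M) ∨
      ((∃ n : ℕ, 2 ≤ n ∧ Nonempty (↥(S ⊓ Cfsg.pResidual 2 G) ≃* DihedralGroup n)) ∨
        Cfsg.IsQuasiDihedral ↥(S ⊓ Cfsg.pResidual 2 G)) := by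
  haveI : Fact (Nat.Prime 2) := ⟨Nat.prime_two⟩
  haveI hXn := res_zOm_normal hS
  set H := Cfsg.pResidual 2 G with hHdef
  set X := H ⊔ zOm S with hXdef
  have hHX : H ≤ X := le_sup_left
  have hXzi : ∀ P : Subgroup G, SylIn 2 P ⊤ → ∀ z, Zi P z → z ∈ X :=
    zOm_cj_zi hS fun z hz => Subgroup.mem_sup_right hz.mem_zOm'
  have hsolvX : ∀ L : Subgroup ↥X, Cfsg.IsTwoLocal L → Group.IsSolvable L := by
    rintro L ⟨T, hT, hT1, rfl⟩
    haveI := hN (Subgroup.normalizer ((T.map X.subtype : Subgroup G) : Set G))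
      ⟨T.map X.subtype, hT.map _,
        fun e => hT1 ((Subgroup.map_eq_bot_iff_of_injective _ X.subtype_injective).1 e), rfl⟩
    refine Group.isSolvable_of_isSolvable_injective
      (f := (X.subtype.comp (Subgroup.normalizer (T : Set ↥X)).subtype).codRestrict
        (Subgroup.normalizer ((T.map X.subtype : Subgroup G) : Set G))
        fun w => T.le_normalizer_map X.subtype ⟨w, w.2, rfl⟩)
      fun a b e => Subtype.ext (Subtype.ext (congrArg Subtype.val e :))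
  have hO2 : Cfsg.pCore 2 ↥X = ⊥ := by
    haveI : ((Cfsg.pCore 2 ↥X).map X.subtype).Normal := ConjAct.normal_of_characteristic_of_normal
    have h1 := hO ▸ le_pCore ((isPGroup_pCore 2 ↥X).map X.subtype)
    exact (Subgroup.map_eq_bot_iff_of_injective _ X.subtype_injective).1 (le_bot_iff.1 h1)
  have hZX : ∀ Q : Sylow 2 ↥X,
      Subgroup.centralizer {z : ↥X | z ∈ (Q : Subgroup ↥X) ∧ z ^ 2 = 1 ∧ ∀ s ∈ (Q : Subgroup ↥X), s * z = z * s} ≤
        Subgroup.normalizer ((Q : Subgroup ↥X) : Set ↥X) := by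
    intro Q x hx
    obtain ⟨P, hP, hQP⟩ := exists_sylIn_ge (Q.isPGroup'.map X.subtype)
      (le_top : (Q : Subgroup ↥X).map X.subtype ≤ ⊤)
    have hPX : P ⊓ X = (Q : Subgroup ↥X).map X.subtype :=
      (sylIn_map X Q).eq_of_le hP.isPGroup.to_inf_left (le_inf hQP (Subgroup.map_subtype_le _)) inf_le_right
    have hxN : (x : G) ∈ Subgroup.normalizer (P : Set G) := by
      refine h.zc P hP _ fun w hw hwc hwo => ?_
      have hwX := hXzi P hP w ⟨hwo, hw, hwc⟩
      obtain ⟨w', hw', rfl⟩ := hPX.le ⟨hw, hwX⟩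
      refine congrArg Subtype.val (Subgroup.mem_centralizer_iff.1 hx w' ⟨hw', ?_, fun s hs => ?_⟩).symm
      · exact Subtype.ext (by rw [Subgroup.coe_pow]; exact hwo ▸ pow_orderOf_eq_one _)
      · exact Subtype.ext (hwc s (hQP ⟨s, hs, rfl⟩))
    refine mem_normalizer_of_cj_le ?_
    rintro _ ⟨s, hs, rfl⟩
    have hmem : (x : G) * s * (x : G)⁻¹ ∈ P ⊓ X :=
      ⟨(Subgroup.mem_normalizer_iff.1 hxN _).1 (hQP ⟨s, hs, rfl⟩), X.mul_mem (X.mul_mem x.2 s.2) (X.inv_mem x.2)⟩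
    obtain ⟨v, hv, hve⟩ := hPX.le hmem
    rwa [show (MulAut.conj x).toMonoidHom s = v from Subtype.ext hve.symm]
  rcases Cfsg.Agent.S0518.result hX hO2 hsolvX hZX _ rfl with ⟨K, hK⟩ | ⟨M₁, M₂, -, hM₁, -, ⟨e⟩, -, -⟩
  · left
    have hKd := (Cfsg.Agent.S0223.result K hK.1 hK.2.1).1 hK
    obtain ⟨t, htK⟩ := exists_prime_orderOf_dvd_card' (G := K) 2 (even_iff_two_dvd.1 hK.2.1)
    have ht : orderOf ((t : ↥X) : G) = 2 := by rw [Subgroup.orderOf_coe, Subgroup.orderOf_coe, htK]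
    obtain ⟨P, hP, htP⟩ := exists_sylIn_ge (isPGroup_zpowers ht) (le_top : Subgroup.zpowers _ ≤ ⊤)
    obtain ⟨z, hz, hzH⟩ := exists_zi_res heven hO' hO hP
    have hzK : (⟨z, hHX hzH⟩ : ↥X) ∈ K := hKd.1 t t.2 (by rw [Subgroup.orderOf_coe, htK])
      (Subgroup.mem_centralizer_singleton_iff.2
        (Subtype.ext (hz.comm _ (htP (Subgroup.mem_zpowers _))).symm))
    have hzord : orderOf (⟨z, hzH⟩ : ↥H) = 2 := by rw [Subgroup.orderOf_mk, hz.ord]
    refine ⟨K.comap (Subgroup.inclusion hHX), ?_, ?_, fun g hg => ?_⟩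
    · intro etop
      obtain ⟨g, hg⟩ : ∃ g : ↥X, g ∉ K := by
        by_contra hh
        push Not at hh
        exact hK.1 ((Subgroup.eq_top_iff' K).2 hh)
      have hin : ∀ w : ↥H, Subgroup.inclusion hHX w ∈ K := fun w => etop.ge (Subgroup.mem_top w)
      have h2 : (⟨z, hHX hzH⟩ : ↥X) ∈ K ⊓ K.map (MulAut.conj g).toMonoidHom := by
        refine ⟨hzK, ⟨g⁻¹ * ⟨z, hHX hzH⟩ * g, hin ⟨(g : G)⁻¹ * z * g, ?_⟩, ?_⟩⟩
        · have := (inferInstance : (Cfsg.pResidual 2 G).Normal).conj_mem z hzH (g : G)⁻¹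
          rwa [inv_inv] at this
        · show g * (g⁻¹ * ⟨z, hHX hzH⟩ * g) * g⁻¹ = _
          group
      have h3 := orderOf_dvd_natCard (⟨_, h2⟩ : ↥(K ⊓ K.map (MulAut.conj g).toMonoidHom))
      rw [Subgroup.orderOf_mk, Subgroup.orderOf_mk, hz.ord] at h3
      exact Nat.not_even_iff_odd.2 (hK.2.2 g hg) (even_iff_two_dvd.2 h3)
    · rw [even_iff_two_dvd, ← hzord,
        ← Subgroup.orderOf_mk (⟨z, hzH⟩ : ↥H) (show _ ∈ K.comap (Subgroup.inclusion hHX) from hzK)]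
      exact orderOf_dvd_natCard _
    · refine (hK.2.2 (Subgroup.inclusion hHX g) hg).of_dvd_nat ?_
      rw [← Subgroup.card_map_of_injective (Subgroup.inclusion_injective hHX)]
      refine Subgroup.card_dvd_of_le ?_
      rintro _ ⟨w, ⟨hw, v, hv, rfl⟩, rfl⟩
      exact ⟨hw, Subgroup.inclusion hHX v, hv, rfl⟩
  · right
    let W := Subgroup.closure {g : ↥X | Odd (orderOf g)}
    have hW : W.map X.subtype = H := by
      rw [MonoidHom.map_closure, hHdef, Cfsg.pResidual]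
      refine congrArg Subgroup.closure (Set.ext fun x => ⟨?_, fun hx => ?_⟩)
      · rintro ⟨y, hy, rfl⟩
        show Nat.Coprime (orderOf (y : G)) 2
        rw [Subgroup.orderOf_coe]; exact Nat.coprime_two_right.2 hy
      · refine ⟨⟨x, hHX (Subgroup.subset_closure hx)⟩, ?_, rfl⟩
        show Odd (orderOf _)
        rw [Subgroup.orderOf_mk]; exact Nat.coprime_two_right.1 hx
    let f : ↥W ≃* ↥H := (W.equivMapOfInjective X.subtype X.subtype_injective).trans (MulEquiv.subgroupCongr hW)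
    obtain ⟨R, hR⟩ := (show SylIn 2 (S ⊓ H) H from
      hS.inf_normal le_top (by rw [Subgroup.normalizer_eq_top])).exists_sylow_subgroupOf
    let P₀ : Sylow 2 ↥W := default
    let eR : ↥(P₀ : Subgroup ↥W) ≃* ↥(S ⊓ H) :=
      (((P₀ : Subgroup ↥W).equivMapOfInjective f.toMonoidHom f.injective).trans
        (Sylow.equiv (P₀.mapSurjective (f := f.toMonoidHom) f.surjective) R)).trans
        ((MulEquiv.subgroupCongr hR).trans (Subgroup.subgroupOfEquivOfLe inf_le_right))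
    rcases dihedral_of_local M₁ hM₁.1 e P₀ with ⟨n, hn, ⟨en⟩⟩ | h'
    · exact Or.inl ⟨n, hn, ⟨eR.symm.trans en⟩⟩
    · exact Or.inr (qd_congr eR h')

theorem solvable_locals (h : Hyp G) (heven : Even (Nat.card G))
    (hN : ∀ L : Subgroup G, Cfsg.IsTwoLocal L → Group.IsSolvable L)
    (hO' : Cfsg.pPrimeCore 2 G = ⊥) (hO : Cfsg.pCore 2 G = ⊥) {S : Subgroup G} (hS : SylIn 2 S ⊤) :
    (∃ M : Subgroup ↥(Cfsg.pResidual 2 G), Cfsg.IsStronglyEmbedded M) ∨
    ((∃ n : ℕ, 2 ≤ n ∧ Nonempty (↥(S ⊓ Cfsg.pResidual 2 G) ≃* DihedralGroup n)) ∨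
      Cfsg.IsQuasiDihedral ↥(S ⊓ Cfsg.pResidual 2 G)) ∨
    (Nat.card ↥(zOm S ⊓ Cfsg.pResidual 2 G) = 2 ∧
      ∀ g ∈ Cfsg.pResidual 2 G, ∀ z ∈ zOm S ⊓ Cfsg.pResidual 2 G, g * z * g⁻¹ ∈ S → g * z * g⁻¹ ∈ zOm S) ∨
    (Nat.card ↥(zOm S) = 4 ∧ Cfsg.omegaOne 2 (S ⊓ Cfsg.pResidual 2 G) = zOm S) := by
  rcases main h heven hO' hO hS with h1 | h2 | h3 | h4
  · exact Or.inl h1
  · exact Or.inr (Or.inr (Or.inl h2))
  · exact Or.inr (Or.inr (Or.inr h3))
  · exact (char_two_case h heven hN hO' hO hS h4).elim Or.inl fun h5 => Or.inr (Or.inl h5)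

theorem isTwoLocal_cent {t : G} (ht : orderOf t = 2) :
    Cfsg.IsTwoLocal (Subgroup.centralizer ({t} : Set G)) := by
  refine ⟨Subgroup.zpowers t, isPGroup_zpowers ht, fun e => ne_one ht (Subgroup.zpowers_eq_bot.1 e),
    le_antisymm (fun g hg => mem_normalizer_of_cj_le ?_) fun g hg => ?_⟩
  · rintro _ ⟨w, hw, rfl⟩
    obtain ⟨i, rfl⟩ := Subgroup.mem_zpowers_iff.1 hw
    show g * t ^ i * g⁻¹ ∈ Subgroup.zpowers t
    rw [((show Commute g t from Subgroup.mem_centralizer_singleton_iff.1 hg).zpow_right i).eq,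
      mul_inv_cancel_right]
    exact zpow_mem (Subgroup.mem_zpowers t) i
  · obtain ⟨i, hi⟩ := Subgroup.mem_zpowers_iff.1
      ((Subgroup.mem_normalizer_iff.1 hg t).1 (Subgroup.mem_zpowers t))
    rw [Subgroup.mem_centralizer_singleton_iff]
    rcases Int.even_or_odd' i with ⟨j, rfl | rfl⟩
    · rw [zpow_mul, zpow_two, sq_one ht, one_zpow] at hi
      exact absurd (conj_eq_one_iff.1 hi.symm) (ne_one ht)
    · rw [zpow_add, zpow_mul, zpow_two, sq_one ht, one_zpow, one_mul, zpow_one] at hi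
      exact mul_inv_eq_iff_eq_mul.1 hi.symm

end Cfsg.Agent.ZnGroup
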