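import Cfsg.Agent.Lib.Lead.ZnGroup.Signal
import Cfsg.Agent.Lib.Solv.PGroupPhi
import Cfsg.Agent.Lib.Fusion.NPC
import Cfsg.Agent.S0111

/-!
# Squares in 2-groups of rank two, transfer inside `O²(G)`, a Frattini argument
-/

set_option autoImplicit false
set_option linter.unusedSectionVars false
set_option linter.style.haveILetI false
open Cfsg.Agent.Fusion
open scoped commutatorElement

namespace Cfsg.Agent.ZnGroup

universe u

section Abstract

variable {X : Type u} [Group X] [Finite X]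

/-- Without a normal four group, squares which are involutions have at most two conjugates. -/
theorem square_conj (hX : IsPGroup 2 X)
    (hno : ∀ V : Subgroup X, V.Normal → Cfsg.IsElementaryAbelian 2 V → Nat.card V ≠ 4)
    (q : X) (hf : q * q * (q * q) = 1) (g : X) :
    ∃ d : X, d * d = 1 ∧ (∀ x, x * d = d * x) ∧ g * (q * q) * g⁻¹ = (q * q) * d := by
  haveI : Fact (Nat.Prime 2) := ⟨Nat.prime_two⟩
  obtain ⟨A, hAn, hAab, hAc⟩ := Solv.exists_maximal_abelian_normal hX
  have hom : ∀ x ∈ A, ∀ y ∈ A, orderOf x = 2 → orderOf y = 2 → x = y := by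
    intro x hx y hy hx2 hy2
    by_contra hne
    let W : Subgroup X :=
      { carrier := {a | a ∈ A ∧ a ^ 2 = 1}
        one_mem' := ⟨one_mem A, one_pow 2⟩
        mul_mem' := fun {a b} ha hb => ⟨mul_mem ha.1 hb.1, by
          rw [Commute.mul_pow (hAab a ha.1 b hb.1), ha.2, hb.2, one_mul]⟩
        inv_mem' := fun {a} ha => ⟨inv_mem ha.1, by rw [inv_pow, ha.2, inv_one]⟩ }
    haveI : W.Normal := ⟨fun a ha g => ⟨hAn.conj_mem a ha.1 g, by rw [conj_pow, ha.2]; group⟩⟩
    have hW : Cfsg.IsElementaryAbelian 2 W :=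
      ⟨⟨⟨fun a b => Subtype.ext (hAab a a.2.1 b b.2.1)⟩⟩, fun a ha => ha.2⟩
    have f : Four x y := ⟨hx2, hy2, hAab x hx y hy, hne⟩
    have h4 : 4 ≤ Nat.card W := f.four_le.trans (Subgroup.card_le_of_le (f.grp_le (S := W)
      ⟨hx, by rw [← hx2]; exact pow_orderOf_eq_one x⟩ ⟨hy, by rw [← hy2]; exact pow_orderOf_eq_one y⟩))
    obtain ⟨V, -, h1, h2, h3⟩ := normal_four_le hX W hW h4
    exact hno V h1 h2 h3
  obtain ⟨⟨a, haA⟩, -, hgen⟩ := Solv.abelian_cyclic_of_unique (hX.to_subgroup A)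
    (fun x y hx hy hy1 => by
      by_cases hx1 : x = 1
      · rw [hx1]; exact one_mem _
      · rw [show x = y from Subtype.ext (hom x x.2 y y.2
          (orderOf_eq_prime (congrArg Subtype.val hx) (fun h => hx1 (Subtype.ext h)))
          (orderOf_eq_prime (congrArg Subtype.val hy) (fun h => hy1 (Subtype.ext h))))]
        exact Subgroup.mem_zpowers y) ⊤ (fun x _ y _ => Subtype.ext (hAab x x.2 y y.2))
  have hA : ∀ x ∈ A, ∃ i : ℤ, a ^ i = x := fun x hx => by
    obtain ⟨i, hi⟩ := Subgroup.mem_zpowers_iff.1 (hgen.le (Subgroup.mem_top (⟨x, hx⟩ : A)))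
    exact ⟨i, congrArg Subtype.val hi⟩
  obtain ⟨r, hr⟩ := hA _ (hAn.conj_mem a haA q)
  obtain ⟨t, ht⟩ := hA _ (hAn.conj_mem a haA g⁻¹)
  obtain ⟨f, hfd⟩ : ∃ f, f = q * q := ⟨_, rfl⟩
  rw [← hfd] at hf ⊢
  have hfa : f * a * f⁻¹ = a ^ (r * r) := by
    rw [hfd, show q * q * a * (q * q)⁻¹ = q * (q * a * q⁻¹) * q⁻¹ by group, ← hr, ← conj_zpow, ← hr,
      ← zpow_mul]
  have hgt : g * a ^ t * g⁻¹ = a := by rw [ht]; group
  have hga : (g * f * g⁻¹) * a * (g * f * g⁻¹)⁻¹ = a ^ (r * r) := by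
    calc _ = g * (f * (g⁻¹ * a * g⁻¹⁻¹) * f⁻¹) * g⁻¹ := by group
      _ = g * (f * a ^ t * f⁻¹) * g⁻¹ := by rw [← ht]
      _ = g * (a ^ t) ^ (r * r) * g⁻¹ := by rw [← conj_zpow, hfa, ← zpow_mul, ← zpow_mul, mul_comm t]
      _ = a ^ (r * r) := by rw [← conj_zpow, hgt]
  set d := f⁻¹ * (g * f * g⁻¹) with hd
  have hdA : d ∈ A := by
    rw [← hAc, Subgroup.mem_centralizer_iff]
    intro b hb
    obtain ⟨i, rfl⟩ := hA b hb
    have h1 : d * a * d⁻¹ = a := by
      calc _ = f⁻¹ * ((g * f * g⁻¹) * a * (g * f * g⁻¹)⁻¹) * f := by rw [hd]; group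
        _ = f⁻¹ * (f * a * f⁻¹) * f := by rw [hga, hfa]
        _ = a := by group
    exact ((show Commute d a from mul_inv_eq_iff_eq_mul.1 h1).zpow_right i).eq.symm
  obtain ⟨i, hi⟩ := hA d hdA
  have hd2 : d ^ (r * r + 1) = 1 := by
    have e1 : (f * d) * (f * d) = 1 := by
      rw [hd, mul_inv_cancel_left, show g * f * g⁻¹ * (g * f * g⁻¹) = g * (f * f) * g⁻¹ by group, hf]
      group
    have e2 : f⁻¹ = f := inv_eq_of_mul_eq_one_right hf
    have e3 : f * d * f⁻¹ = d ^ (r * r) := by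
      rw [← hi, ← conj_zpow, hfa, ← zpow_mul, ← zpow_mul, mul_comm]
    rw [zpow_add, zpow_one, ← e3, e2]
    rw [mul_assoc (f * d)]
    exact e1
  have hdd : d * d = 1 := by
    obtain ⟨k, hk⟩ := IsPGroup.iff_orderOf.1 hX d
    have hdvd := orderOf_dvd_iff_zpow_eq_one.2 hd2
    rw [hk] at hdvd
    rw [← pow_two]
    rcases k with _ | _ | k
    · rw [orderOf_eq_one_iff.1 (show orderOf d = 1 by simpa using hk), one_pow]
    · rw [← show orderOf d = 2 by simpa using hk]; exact pow_orderOf_eq_one d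
    · exfalso
      have h4 : (4 : ℤ) ∣ r * r + 1 := by
        refine dvd_trans ?_ hdvd
        exact_mod_cast (show 4 ∣ 2 ^ (k + 2) from ⟨2 ^ k, by ring⟩)
      obtain ⟨c, hc⟩ := h4
      rcases Int.even_or_odd' r with ⟨m, rfl | rfl⟩ <;> ring_nf at hc <;> omega
  refine ⟨d, hdd, fun x => ?_, by rw [hd]; group⟩
  by_cases hd1 : d = 1
  · rw [hd1, mul_one, one_mul]
  · have ho : orderOf d = 2 := order_two hdd hd1
    have := hom _ (hAn.conj_mem d hdA x) d hdA ((orderOf_conj x d).trans ho) ho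
    exact mul_inv_eq_iff_eq_mul.1 this

/-- When an involution has centraliser of order four, a subgroup of index at most two has few classes
of involutions. -/
theorem class_half (hX : IsPGroup 2 X) {z a : X} (hzc : ∀ x, x * z = z * x) (ha : a * a = 1)
    (hna : ∃ x, x * a ≠ a * x) (hC : ∀ x, x * a = a * x → x = 1 ∨ x = z ∨ x = a ∨ x = z * a) :
    ∃ J : Subgroup X, J.index ≤ 2 ∧ ∀ u ∈ J, u ≠ 1 → u * u = 1 → u = z ∨ ∃ g, u = g * a * g⁻¹ := by
  classical
  haveI : Fact (Nat.Prime 2) := ⟨Nat.prime_two⟩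
  set D := commutator X with hD
  have hidx : 4 ≤ D.index := by
    by_contra hlt
    obtain ⟨k, hk⟩ := hX.index D
    obtain ⟨g, hg⟩ : ∃ g, D ⊔ Subgroup.zpowers g = ⊤ := by
      rcases k with _ | _ | k
      · exact ⟨1, by rw [Subgroup.index_eq_one.1 (show D.index = 1 by rw [hk, pow_zero]), top_sup_eq]⟩
      · obtain ⟨g, hg⟩ : ∃ g, g ∉ D := by
          by_contra hh
          push Not at hh
          rw [(Subgroup.eq_top_iff' D).2 hh, Subgroup.index_top] at hk
          simp at hk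
        refine ⟨g, (Subgroup.eq_top_iff' _).2 fun x => ?_⟩
        by_cases hx : x ∈ D
        · exact Subgroup.mem_sup_left hx
        · rw [show x = (x * g⁻¹) * g by group]
          refine mul_mem (Subgroup.mem_sup_left ?_) (Subgroup.mem_sup_right (Subgroup.mem_zpowers g))
          refine (Subgroup.mul_mem_iff_of_index_two (by rw [hk]; rfl)).2 (iff_of_false hx ?_)
          rwa [inv_mem_iff]
      · rw [hk] at hlt
        exfalso
        rw [pow_succ, pow_succ] at hlt
        have := Nat.one_le_two_pow (n := k)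
        omega
    have h1 : Subgroup.zpowers g = ⊤ := frattini_nongenerating (eq_top_iff.2 (hg.ge.trans
      (sup_le (le_sup_of_le_right (Solv.commutator_le_frattini_pgroup hX)) le_sup_left)))
    obtain ⟨x, hx⟩ := hna
    obtain ⟨i, rfl⟩ := Subgroup.mem_zpowers_iff.1 (h1.ge (Subgroup.mem_top x))
    obtain ⟨j, rfl⟩ := Subgroup.mem_zpowers_iff.1 (h1.ge (Subgroup.mem_top a))
    exact hx (zpow_mul_comm g i j)
  let cls : Set X := Set.range fun g : X => g * a * g⁻¹
  let toD : cls → D := fun c => ⟨a⁻¹ * c.1, by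
    obtain ⟨_, g, rfl⟩ := c
    show a⁻¹ * (g * a * g⁻¹) ∈ D
    rw [show a⁻¹ * (g * a * g⁻¹) = ⁅a⁻¹, g⁆ by rw [commutatorElement_def]; group, hD, commutator_def]
    exact Subgroup.commutator_mem_commutator (Subgroup.mem_top _) (Subgroup.mem_top _)⟩
  have hinj : Function.Injective toD := fun c c' e =>
    Subtype.ext (mul_left_cancel (congrArg Subtype.val e))
  have hcardcls : Nat.card cls * Nat.card ↥(Subgroup.centralizer ({a} : Set X)) = Nat.card X := by
    rw [← Subgroup.card_mul_index (Subgroup.centralizer ({a} : Set X)), mul_comm]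
    congr 1
    rw [Subgroup.index_eq_card]
    refine (Nat.card_congr (Equiv.ofBijective
      (Quotient.lift (fun g : X => (⟨g * a * g⁻¹, g, rfl⟩ : cls)) ?_) ⟨?_, ?_⟩)).symm
    · intro g g' e
      have := Subgroup.mem_centralizer_singleton_iff.1 (QuotientGroup.leftRel_apply.1 e)
      refine Subtype.ext ?_
      show g * a * g⁻¹ = g' * a * g'⁻¹
      calc g * a * g⁻¹ = g * (a * (g⁻¹ * g')) * g'⁻¹ := by group
        _ = g * ((g⁻¹ * g') * a) * g'⁻¹ := by rw [this]
        _ = _ := by group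
    · intro x x'
      induction x using Quotient.inductionOn with | _ g => ?_
      induction x' using Quotient.inductionOn with | _ g' => ?_
      intro e
      have e' : g * a * g⁻¹ = g' * a * g'⁻¹ := congrArg Subtype.val e
      refine Quotient.sound (QuotientGroup.leftRel_apply.2 (Subgroup.mem_centralizer_singleton_iff.2 ?_))
      calc g⁻¹ * g' * a = g⁻¹ * (g' * a * g'⁻¹) * g' := by group
        _ = _ := by rw [← e']; group
    · rintro ⟨_, g, rfl⟩; exact ⟨QuotientGroup.mk g, rfl⟩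
  have hC4 : Nat.card ↥(Subgroup.centralizer ({a} : Set X)) ≤ 4 := by
    refine (Nat.card_coe_set_eq _).trans_le ((Set.ncard_le_ncard (t := ({1, z, a, z * a} : Set X))
      (fun x hx => by
        rcases hC x (Subgroup.mem_centralizer_singleton_iff.1 hx) with e | e | e | e <;> simp [e])
      (Set.toFinite _)).trans ?_)
    refine (Set.ncard_insert_le _ _).trans ?_
    have := Set.ncard_insert_le z ({a, z * a} : Set X)
    have := Set.ncard_insert_le a ({z * a} : Set X)
    have := Set.ncard_singleton (z * a)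
    omega
  have hle := Nat.card_le_card_of_injective toD hinj
  have hcard := D.card_mul_index
  have hsurj : Function.Bijective toD := by
    refine (Nat.bijective_iff_injective_and_card toD).2 ⟨hinj, ?_⟩
    nlinarith
  have hin : ∀ w ∈ D, ∃ g, a * w = g * a * g⁻¹ := fun w hw => by
    obtain ⟨⟨_, g, rfl⟩, hc⟩ := hsurj.2 ⟨w, hw⟩
    refine ⟨g, ?_⟩
    rw [← show a⁻¹ * (g * a * g⁻¹) = w from congrArg Subtype.val hc, mul_inv_cancel_left]
  have haD : a ∉ D := fun hh => by
    obtain ⟨g, hg⟩ := hin a⁻¹ (inv_mem hh)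
    rw [mul_inv_cancel] at hg
    obtain ⟨x, hx⟩ := hna
    rw [conj_eq_one_iff.1 hg.symm] at hx
    simp at hx
  haveI : D.Normal := by rw [hD]; infer_instance
  refine ⟨D ⊔ Subgroup.zpowers a, ?_, fun u hu hu1 huu => ?_⟩
  · have h1 : (D ⊔ Subgroup.zpowers a).index < D.index :=
      Subgroup.index_strictAnti (lt_of_le_of_ne le_sup_left fun e =>
        haD (e.symm.le (Subgroup.mem_sup_right (Subgroup.mem_zpowers a))))
    have hD4 : D.index ≤ 4 := by
      have : Nat.card D * D.index ≤ Nat.card D * 4 := by rw [hcard, ← hcardcls]; gcongr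
      exact Nat.le_of_mul_le_mul_left this Nat.card_pos
    obtain ⟨k, hk⟩ := hX.index (D ⊔ Subgroup.zpowers a)
    rcases k with _ | _ | k
    · omega
    · omega
    · rw [hk] at h1
      have : 4 ≤ 2 ^ (k + 2) := by rw [pow_succ, pow_succ]; have := Nat.one_le_two_pow (n := k); omega
      omega
  obtain ⟨w, hw, p, hp, rfl⟩ := Subgroup.mem_sup_of_normal_left.1 hu
  obtain ⟨j, rfl⟩ := Subgroup.mem_zpowers_iff.1 hp
  rcases Int.even_or_odd' j with ⟨j, rfl | rfl⟩
  · have e : a ^ (2 * j) = 1 := by rw [zpow_mul, zpow_two, ha, one_zpow]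
    rw [e, mul_one] at hu1 huu ⊢
    obtain ⟨g, hg⟩ := hin w hw
    have h2 : (a * w) * (a * w) = 1 := by
      rw [hg, show g * a * g⁻¹ * (g * a * g⁻¹) = g * (a * a) * g⁻¹ by group, ha]; group
    have hwa : w * a = a * w := by
      have ea : a⁻¹ = a := inv_eq_of_mul_eq_one_right ha
      have ew : w⁻¹ = w := inv_eq_of_mul_eq_one_right huu
      calc w * a = w⁻¹ * a⁻¹ := by rw [ea, ew]
        _ = (a * w)⁻¹ := by group
        _ = a * w := inv_eq_of_mul_eq_one_right h2
    rcases hC w hwa with rfl | rfl | rfl | rfl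
    · exact absurd rfl hu1
    · exact Or.inl rfl
    · exact absurd hw haD
    · exfalso
      rw [show a * (z * a) = z by rw [← mul_assoc, hzc a, mul_assoc, ha, mul_one]] at hg
      have : a = z := by
        calc a = g⁻¹ * (g * a * g⁻¹) * g := by group
          _ = z := by rw [← hg, mul_assoc, ← hzc g, ← mul_assoc, inv_mul_cancel, one_mul]
      obtain ⟨x, hx⟩ := hna
      exact hx (this ▸ hzc x)
  · have e : a ^ (2 * j + 1) = a := by rw [zpow_add, zpow_mul, zpow_two, ha, one_zpow, one_mul, zpow_one]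
    rw [e] at hu1 huu ⊢
    obtain ⟨g, hg⟩ := hin (a⁻¹ * w * a) (by simpa using (inferInstance : D.Normal).conj_mem w hw a⁻¹)
    exact Or.inr ⟨g, by rw [← hg]; group⟩

/-- The Frattini argument for `O_{2',2}` of a solvable group. -/
theorem core_frattini (hs : Group.IsSolvable X) (P : Sylow 2 X) :
    ∃ T : Subgroup X, T ≤ P ∧ (∀ x ∈ (P : Subgroup X), (∀ t ∈ T, x * t = t * x) → x ∈ T) ∧
      ∀ c : X, ∃ o ∈ Cfsg.pPrimeCore 2 X, ∃ m ∈ Subgroup.normalizer (T : Set X), c = o * m := by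
  haveI : Fact (Nat.Prime 2) := ⟨Nat.prime_two⟩
  obtain ⟨O, hO⟩ : ∃ O, O = Cfsg.pPrimeCore 2 X := ⟨_, rfl⟩
  haveI : O.Normal := hO ▸ inferInstance
  rw [← hO]
  set π := QuotientGroup.mk' O
  set N := (Cfsg.pCore 2 (X ⧸ O)).comap π with hN
  haveI : N.Normal := Subgroup.Normal.comap inferInstance π
  have h0 : Cfsg.pPrimeCore 2 (X ⧸ O) = ⊥ := by subst hO; exact pPrimeCore_quotient_eq_bot
  have hcov : ∀ q ∈ Cfsg.pCore 2 (X ⧸ O), ∃ t ∈ (P : Subgroup X), t ∈ N ∧ π t = q := by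
    intro q hq
    have h1 := pCore_le_sylow (P.mapSurjective (f := π) (QuotientGroup.mk'_surjective O)) hq
    rw [Sylow.coe_mapSurjective] at h1
    obtain ⟨t, ht, rfl⟩ := h1
    exact ⟨t, ht, hq, rfl⟩
  refine ⟨(P : Subgroup X) ⊓ N, inf_le_left, fun x hx hc => ⟨hx, ?_⟩, fun c => ?_⟩
  · haveI : Group.IsSolvable X := hs
    refine centralizer_pCore_le_of_solvable
      (Group.isSolvable_of_surjective (QuotientGroup.mk'_surjective O)) h0 ?_
    refine Subgroup.mem_centralizer_iff.2 fun q hq => ?_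
    obtain ⟨t, ht, htN, rfl⟩ := hcov q hq
    show π t * π x = π x * π t
    rw [← map_mul, ← map_mul, hc t ⟨ht, htN⟩]
  · have hT : SylIn 2 ((P : Subgroup X) ⊓ N) N :=
      (sylIn_top P).inf_normal le_top (by rw [Subgroup.normalizer_eq_top])
    obtain ⟨n, hn, hm⟩ := frattini_conj hT (H := ⊤) (by rw [Subgroup.normalizer_eq_top])
      (Subgroup.mem_top c)
    obtain ⟨t, ht, htN, ht'⟩ := hcov (π n) hn
    have htn : t⁻¹ * n ∈ O := by
      rw [← QuotientGroup.eq]; exact ht'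
    -- n = t * o
    refine ⟨(t⁻¹ * n)⁻¹, inv_mem htn, t⁻¹ * (n * c), mul_mem ?_ hm, by group⟩
    exact inv_mem (Subgroup.le_normalizer ⟨ht, htN⟩)

end Abstract

variable {G : Type u} [Group G] [Finite G]

/-- Thompson transfer inside `O²(G)`. -/
theorem transfer {S T : Subgroup G} (hS : SylIn 2 S ⊤) (hT : T.relIndex S ≤ 2) {u : G}
    (hu : orderOf u = 2) (huS : u ∈ S) (huH : u ∈ Cfsg.pResidual 2 G) :
    ∃ g : G, g * u * g⁻¹ ∈ T ∧ g * u * g⁻¹ ∈ S := by
  haveI : Fact (Nat.Prime 2) := ⟨Nat.prime_two⟩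
  by_cases huT : u ∈ T
  · exact ⟨1, by simpa using huT, by simpa using huS⟩
  set H := Cfsg.pResidual 2 G with hH
  have hR : SylIn 2 (S ⊓ H) H := hS.inf_normal le_top (by rw [Subgroup.normalizer_eq_top])
  obtain ⟨P, hP⟩ := hR.exists_sylow_subgroupOf
  have hQP : (T ⊓ (S ⊓ H)).subgroupOf H ≤ (P : Subgroup H) := hP ▸ Subgroup.comap_mono inf_le_right
  have hidx : ((T ⊓ (S ⊓ H)).subgroupOf H).relIndex (P : Subgroup H) = 2 := by
    rw [hP, Subgroup.relIndex_subgroupOf inf_le_right, Subgroup.inf_relIndex_right]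
    have h1 : T.relIndex (S ⊓ H) ≤ T.relIndex S :=
      Subgroup.relIndex_le_of_le_right inf_le_left (Subgroup.index_ne_zero_of_finite (H := T.subgroupOf S))
    have h2 : T.relIndex (S ⊓ H) ≠ 1 := fun e => huT (Subgroup.relIndex_eq_one.1 e ⟨huS, huH⟩)
    have h3 : T.relIndex (S ⊓ H) ≠ 0 := Subgroup.index_ne_zero_of_finite
    omega
  rcases Cfsg.Agent.S0111.result P _ hQP hidx ⟨u, huH⟩ (by rw [← hu, ← Subgroup.orderOf_coe])
    (hP ▸ (⟨huS, huH⟩ : u ∈ S ⊓ H)) (fun hh => huT hh.1) with ⟨M, hMn, hMi, hMu⟩ | ⟨g, hg⟩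
  · exfalso
    haveI := hMn
    have h1 : Cfsg.pResidual 2 ↥H = ⊤ := pResidual_pResidual
    have h2 : Cfsg.pResidual 2 ↥H ≤ M := pResidual_le_of_isPGroup_quotient
      (IsPGroup.of_card (n := 1) (by rw [← Subgroup.index_eq_card, hMi, pow_one]))
    exact hMu (h2 (h1 ▸ Subgroup.mem_top _))
  · exact ⟨g, hg.1, hg.2.1⟩

end Cfsg.Agent.ZnGroup
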